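import Groth.Agent.K0Fam.Part

/-! # The class of a coherent module is the class of its cycle -/

set_option autoImplicit false
set_option backward.isDefEq.respectTransparency false
set_option linter.style.haveILetI false
set_option linter.unusedSectionVars false

universe u

open CategoryTheory CategoryTheory.Limits AlgebraicGeometry TopologicalSpace Opposite
open Groth.Agent.PullbackMod Groth.Agent.DevLib

noncomputable section

namespace Groth.Agent.K0Fam

variable {X : Scheme.{u}}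

theorem isPiece_closureStructureSheaf (ξ : X) : IsPiece ξ (Cyc.closureStructureSheaf ξ) := by
  let I := IntMult.ptIdeal ξ
  haveI := DVRCrit.isReduced_vanishingIdeal (⟨closure {ξ}, isClosed_closure⟩ : Closeds X)
  haveI : IsReduced I.subscheme := this
  have hr : Set.range I.subschemeι = closure {ξ} := by
    rw [Scheme.IdealSheafData.range_subschemeι]
    show ((Scheme.IdealSheafData.vanishingIdeal (⟨closure {ξ}, isClosed_closure⟩ : Closeds X)).support : Set X) = _
    rw [Scheme.IdealSheafData.coe_support_vanishingIdeal]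
    rfl
  obtain ⟨z, hz⟩ : ξ ∈ Set.range I.subschemeι := hr ▸ subset_closure rfl
  have hgen : ∀ w : I.subscheme, z ⤳ w := fun w => by
    rw [← I.subschemeι.isClosedEmbedding.isEmbedding.isInducing.specializes_iff, hz,
      specializes_iff_mem_closure]
    exact hr ▸ ⟨w, rfl⟩
  have hz' : IsGenericPoint z (Set.univ : Set I.subscheme) :=
    isGenericPoint_iff_specializes.2 fun w => ⟨fun _ => trivial, fun _ => hgen w⟩
  haveI : IrreducibleSpace I.subscheme := (irreducibleSpace_def _).2 hz'.isIrreducible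
  haveI : IsIntegral I.subscheme := isIntegral_of_irreducibleSpace_of_isReduced _
  have hg : I.subschemeι (genericPoint I.subscheme) = ξ := by
    have h1 : genericPoint I.subscheme = z := (genericPoint_spec I.subscheme).eq hz'
    rw [h1, hz]
  have h := isPiece_pushUnit I.subschemeι
  rw [hg] at h
  exact h

variable [IsLocallyNoetherian X] {δ : X → ℤ} {k : ℤ} (hδ : Cyc.IsDimFun X δ)
include hδ

theorem le_of_piece {ξ : X} {Q : X.Modules} (hQ : IsPiece ξ Q) (hk : δ ξ = k) : Cyc.CohLe δ k Q := by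
  refine ⟨hQ.coh, fun x hx => ?_⟩
  by_cases he : ξ = x
  · exact (he ▸ hk).le
  · have := (hδ ξ x (hQ.supp x (not_subsingleton_iff_nontrivial.2 hx)) he).1
    omega

/-- Pieces at the same points have the same class. -/
theorem q_sigma_piece {I : Type u} (ξ : I → X) (hξ : ∀ i, δ (ξ i) = k) (hl : LocFin fun i => closure {ξ i})
    (P : I → X.Modules) (hP : ∀ i, IsPiece (ξ i) (P i)) :
    q δ k (k - 1) (∐ P) = q δ k (k - 1) (∐ fun i => Cyc.closureStructureSheaf (ξ i)) := by
  have hC := fun i => isPiece_closureStructureSheaf (ξ i)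
  choose H p r hH hp hr hps hrs using fun i => exists_common (hP i) (hC i)
  haveI := hp
  haveI := hr
  have hHs : ∀ i, CohB1.support (H i) ⊆ closure {ξ i} := fun i y hy =>
    specializes_iff_mem_closure.1 ((hP i).supp y (support_subset_of_mono (p i) hy))
  have hH' : ∀ i, Cyc.CohLe δ k (H i) := fun i => ⟨hH i, fun x hx =>
    (le_of_piece hδ (hP i) (hξ i)).2 x (not_subsingleton_iff_nontrivial.1
      (support_subset_of_mono (p i) (not_subsingleton_iff_nontrivial.2 hx)))⟩
  have lP : LocFinSupp P := hl.mono fun i y hy => specializes_iff_mem_closure.1 ((hP i).supp y hy)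
  have lC : LocFinSupp fun i => Cyc.closureStructureSheaf (ξ i) :=
    hl.mono fun i y hy => specializes_iff_mem_closure.1 ((hC i).supp y hy)
  have hbij : ∀ i x, k - 1 < δ x → ∀ {T : X.Modules} (f : H i ⟶ T) [Mono f],
      Function.Surjective (stalkLin f (ξ i)) → (∀ y ∈ CohB1.support T, ξ i ⤳ y) → Function.Bijective (stalkLin f x) := by
    intro i x hx T f _ hf hT
    refine ⟨(mono_iff_stalk f).1 inferInstance x, ?_⟩
    by_cases he : ξ i = x
    · exact he ▸ hf
    · haveI : Subsingleton (T.presheaf.stalk x) := subsingleton_of_notMem fun hc => by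
        have := (hδ _ x (hT x hc) he).1
        have := hξ i
        omega
      exact fun b => ⟨0, Subsingleton.elim _ _⟩
  rw [← q_sigma_congr p (hl.mono hHs) lP hH' (fun i => le_of_piece hδ (hP i) (hξ i))
      (fun i x hx => hbij i x hx (p i) (hps i) (hP i).supp),
    q_sigma_congr r (hl.mono hHs) lC hH' (fun i => le_of_piece hδ (hC i) (hξ i))
      (fun i x hx => hbij i x hx (r i) (hrs i) (hC i).supp)]

variable {F : X.Modules} (hF : Cyc.CohLe δ k F)
include hF

omit hδ hF in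
/-- The index of the composition factors. -/
def splitEquiv {P : Type u} (n : P → ℕ) :
    ((Σ a, Fin (n a)) ⊕ P) ≃ (Σ a, Fin (n a + 1)) where
  toFun := Sum.elim (fun p => ⟨p.1, p.2.castSucc⟩) fun a => ⟨a, Fin.last _⟩
  invFun p := Fin.lastCases (motive := fun _ => (Σ a, Fin (n a)) ⊕ P) (Sum.inr p.1) (fun i => Sum.inl ⟨p.1, i⟩) p.2
  left_inv := by rintro (⟨a, i⟩ | a) <;> simp
  right_inv := by rintro ⟨a, i⟩; induction i using Fin.lastCases <;> simp

omit hδ hF in
/-- The index of the composition factors, shifted. -/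
def splitEquiv' {P : Type u} (n : P → ℕ) :
    ((Σ a, Fin (n a)) ⊕ P) ≃ (Σ a, Fin (n a + 1)) where
  toFun := Sum.elim (fun p => ⟨p.1, p.2.succ⟩) fun a => ⟨a, 0⟩
  invFun p := Fin.cases (motive := fun _ => (Σ a, Fin (n a)) ⊕ P) (Sum.inr p.1) (fun i => Sum.inl ⟨p.1, i⟩) p.2
  left_inv := by rintro (⟨a, i⟩ | a) <;> simp
  right_inv := by rintro ⟨a, i⟩; induction i using Fin.cases <;> simp

/-- The index of the class of a module. -/
abbrev Idx (δ : X → ℤ) (k : ℤ) (F : X.Modules) : Type u :=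
  Σ ξ : Pts δ k F, Fin (Module.length (X.presheaf.stalk ξ.1) (F.presheaf.stalk ξ.1)).toNat

/-- The class of a coherent module is given by the lengths at the points of top dimension. -/
theorem q_eq_sum : q δ k (k - 1) F = q δ k (k - 1) (∐ fun j : Idx δ k F => Cyc.closureStructureSheaf j.1.1) := by
  rw [q_eq_sum_parts hδ hF]
  let G := fun ξ : Pts δ k F => part ξ.1 F
  let ee := fun ξ : Pts δ k F => LinearEquiv.ofBijective (stalkLin (toPart ξ.1 F) ξ.1) (bijective_toPart ξ.1)
  have hfl : ∀ ξ : Pts δ k F, IsFiniteLength (X.presheaf.stalk ξ.1) ((G ξ).presheaf.stalk ξ.1) := fun ξ =>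
    (ee ξ).isFiniteLength (finiteLength_pts hδ hF ξ)
  choose s hs0 hs1 using fun ξ => isFiniteLength_iff_exists_compositionSeries.1 (hfl ξ)
  let n := fun ξ => (s ξ).length
  have hn : ∀ ξ, n ξ = (Module.length (X.presheaf.stalk ξ.1) (F.presheaf.stalk ξ.1)).toNat := fun ξ => by
    rw [(ee ξ).length_eq, ← Module.length_compositionSeries (s ξ) (hs0 ξ) (hs1 ξ)]
    exact (ENat.toNat_coe _).symm
  let M : (Σ ξ, Fin (n ξ + 1)) → X.Modules := fun p => subAt ((s p.1).toFun p.2)
  have hle : ∀ (ξ : Pts δ k F) (i : Fin (n ξ)), (s ξ).toFun i.castSucc ≤ (s ξ).toFun i.succ := fun ξ i =>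
    ((s ξ).step i).le
  let f : ∀ p : Σ ξ, Fin (n ξ), M ⟨p.1, p.2.castSucc⟩ ⟶ M ⟨p.1, p.2.succ⟩ := fun p => subAtMap (hle p.1 p.2)
  have hlf := locFin_pts hδ hF
  have hGs : ∀ ξ, ∀ y ∈ CohB1.support (G ξ), ξ.1 ⤳ y := fun ξ y hy => supp_part hy
  have hMs : ∀ p, CohB1.support (M p) ⊆ closure {p.1.1} := fun p y hy =>
    specializes_iff_mem_closure.1 (hGs p.1 y (support_subset_of_mono (subAtι _) hy))
  have hMcoh : ∀ p, Coh.IsCoh (M p) := fun p =>
    isCoh_subAt (cohLe_part hδ hF p.1).1 (absorbs_of_finiteLength (hfl p.1) _)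
  have hM : ∀ p, Cyc.CohLe δ k (M p) := fun p => ⟨hMcoh p, fun x hx => (cohLe_part hδ hF p.1).2 x
    (not_subsingleton_iff_nontrivial.1 (support_subset_of_mono (subAtι _) (not_subsingleton_iff_nontrivial.2 hx)))⟩
  have lA : LocFin fun p : Σ ξ, Fin (n ξ + 1) => closure {p.1.1} :=
    hlf.sigma (F := fun ξ => Fin (n ξ + 1)) fun _ => inferInstance
  have lB : LocFin fun p : Σ ξ, Fin (n ξ) => closure {p.1.1} :=
    hlf.sigma (F := fun ξ => Fin (n ξ)) fun _ => inferInstance
  have lM : LocFinSupp M := lA.mono hMs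
  have hpiece : ∀ p : Σ ξ, Fin (n ξ), IsPiece p.1.1 (cokernel (f p)) := fun p =>
    isPiece_coker (cohLe_part hδ hF p.1).1 (absorbs_of_finiteLength (hfl p.1) _) (hle p.1 p.2) (hGs p.1)
      ((covBy_iff_quot_is_simple (hle p.1 p.2)).1 ((s p.1).step p.2)) (f p) (subAtMap_ι _)
  have hS : ∀ p, Cyc.CohLe δ k (cokernel (f p)) := fun p => le_of_piece hδ (hpiece p) p.1.2.1
  have lS : LocFinSupp fun p => cokernel (f p) :=
    lB.mono fun p y hy => specializes_iff_mem_closure.1 ((hpiece p).supp y hy)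
  have e1 := q_sigma_add (b := k - 1) f (fun p => cokernel.π (f p)) (fun p => cokernel.condition (f p))
    (fun p => cokerSeq_shortExact (f p)) (fun p => hM _) (fun p => hM _) hS
    (lB.mono fun p => hMs _) (lB.mono fun p => hMs _) lS
  have l0 : LocFinSupp fun ξ => M ⟨ξ, 0⟩ := hlf.mono fun ξ => hMs _
  have l1 : LocFinSupp fun ξ => M ⟨ξ, Fin.last _⟩ := hlf.mono fun ξ => hMs _
  have hA0 : ∀ {A : (Σ ξ, Fin (n ξ)) → X.Modules} {B : Pts δ k F → X.Modules},
      (∀ p, CohB1.support (A p) ⊆ closure {p.1.1}) → (∀ ξ, CohB1.support (B ξ) ⊆ closure {ξ.1}) →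
      LocFinSupp (Sum.elim A B) := fun {A B} hA hB x => by
    obtain ⟨W, hx, hW⟩ := (lB.mono hA) x
    obtain ⟨W', hx', hW'⟩ := (hlf.mono hB) x
    refine ⟨W ⊓ W', ⟨hx, hx'⟩, ((hW.image Sum.inl).union (hW'.image Sum.inr)).subset ?_⟩
    rintro (p | ξ) ⟨y, hy, hyW⟩
    · exact Or.inl ⟨p, ⟨y, hy, hyW.1⟩, rfl⟩
    · exact Or.inr ⟨ξ, ⟨y, hy, hyW.2⟩, rfl⟩
  have e2 : q δ k (k - 1) (∐ M) = q δ k (k - 1) (∐ fun p : Σ ξ, Fin (n ξ) => M ⟨p.1, p.2.castSucc⟩) +
      q δ k (k - 1) (∐ fun ξ => M ⟨ξ, Fin.last _⟩) := by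
    rw [← q_sigma_sum (lB.mono fun p => hMs _) l1 (fun p => hM _) (fun ξ => hM _)]
    exact (q_sigma_reindex (splitEquiv n) (fun c => eqToIso (by cases c <;> rfl))
      (hA0 (fun p => hMs _) (fun ξ => hMs _)) (fun c => by cases c <;> exact hM _)).symm
  have e3 : q δ k (k - 1) (∐ M) = q δ k (k - 1) (∐ fun p : Σ ξ, Fin (n ξ) => M ⟨p.1, p.2.succ⟩) +
      q δ k (k - 1) (∐ fun ξ => M ⟨ξ, 0⟩) := by
    rw [← q_sigma_sum (lB.mono fun p => hMs _) l0 (fun p => hM _) (fun ξ => hM _)]
    exact (q_sigma_reindex (splitEquiv' n) (fun c => eqToIso (by cases c <;> rfl))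
      (hA0 (fun p => hMs _) (fun ξ => hMs _)) (fun c => by cases c <;> exact hM _)).symm
  have e4 : q δ k (k - 1) (∐ fun ξ => M ⟨ξ, 0⟩) = 0 := q_sigma_low l0 fun ξ => ⟨hMcoh _, fun x hx => by
    have hsp : ξ.1 ⤳ x := hGs ξ x (support_subset_of_mono (subAtι _) (not_subsingleton_iff_nontrivial.2 hx))
    by_contra hc
    have hxk : ξ.1 = x := by
      by_contra hne
      have := (hδ _ x hsp hne).1
      rw [ξ.2.1] at this
      omega
    subst hxk
    refine not_subsingleton _ (subsingleton_of_forall_eq (α := (M ⟨ξ, 0⟩).presheaf.stalk ξ.1) 0 fun z => ?_)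
    refine injective_stalk_subAtι _ ξ.1 ?_
    rw [map_zero]
    have := (range_stalk_subAtι ((s ξ).toFun (0 : Fin (n ξ + 1)))).le ⟨z, rfl⟩
    exact (Submodule.mem_bot _).1 ((hs0 ξ).le this)⟩
  have e5 : q δ k (k - 1) (∐ fun ξ => M ⟨ξ, Fin.last _⟩) = q δ k (k - 1) (∐ G) := by
    refine q_sigma_congr (fun ξ => subAtι _) l1 (locFin_part hδ hF) (fun ξ => hM _) (cohLe_part hδ hF)
      (fun ξ x _ => ?_)
    haveI : IsIso (subAtι ((s ξ).toFun (Fin.last (n ξ)))) := by
      rw [show (s ξ).toFun (Fin.last (n ξ)) = ⊤ from hs1 ξ]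
      exact isIso_subAtι_top ξ.1
    exact (isIso_iff_stalk _).1 inferInstance x
  have e6 := q_sigma_piece hδ (fun p : Σ ξ, Fin (n ξ) => p.1.1) (fun p => p.1.2.1) lB _ hpiece
  have key : q δ k (k - 1) (∐ G) = q δ k (k - 1) (∐ fun p : Σ ξ, Fin (n ξ) => Cyc.closureStructureSheaf p.1.1) := by
    rw [← e6, ← e5]
    rw [e1, e4, add_zero] at e3
    rw [e2] at e3
    exact add_left_cancel e3
  rw [key]
  exact q_sigma_reindex (Equiv.sigmaCongrRight fun ξ => finCongr (hn ξ)) (fun p => Iso.refl _)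
    (lB.mono fun p y hy => specializes_iff_mem_closure.1 ((isPiece_closureStructureSheaf p.1.1).supp y hy))
    fun p => le_of_piece hδ (isPiece_closureStructureSheaf p.1.1) p.1.2.1

end Groth.Agent.K0Fam
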