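import Groth.Agent.K0Fam.Thick

/-! # Modules on a closed subscheme -/

set_option autoImplicit false
set_option backward.isDefEq.respectTransparency false
set_option linter.style.haveILetI false
set_option linter.unusedSectionVars false

universe u

open CategoryTheory CategoryTheory.Limits AlgebraicGeometry TopologicalSpace
open Groth.Agent.PullbackMod Groth.Agent.DevLib Groth.Agent.DCohLib

noncomputable section

namespace Groth.Agent.K0Fam

variable {X Z : Scheme.{u}} [IsLocallyNoetherian X] (i : Z ⟶ X) [IsClosedImmersion i]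

theorem p1_push {M : Z.Modules} (hM : Coh.IsCoh M) : P1 i ((Scheme.Modules.pushforward i).obj M) :=
  ⟨DevLib.isCoh_pushforward_closed i hM, suppOn_pushforward i M⟩

theorem bijective_push1 [(Scheme.Modules.pushforward i).Additive] [PreservesFiniteLimits (Scheme.Modules.pushforward i)]
    [PreservesFiniteColimits (Scheme.Modules.pushforward i)] :
    Function.Bijective (SGA6.mapSub (Scheme.Modules.pushforward i) (fun M : Z.Modules => Coh.IsCoh M) (P1 i)
      fun _ h => p1_push i h) := by
  haveI : IsLocallyNoetherian Z := LocallyOfFiniteType.isLocallyNoetherian i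
  let F := Scheme.Modules.pushforward i
  let G := Scheme.Modules.pullback i
  let adj := Scheme.Modules.pullbackPushforwardAdjunction i
  haveI : IsIso adj.counit := by
    haveI : ∀ M, IsIso (adj.counit.app M) := fun M => isIso_counit_closedImmersion i M
    exact NatIso.isIso_of_isIso_app _
  haveI : F.Faithful := adj.fullyFaithfulROfIsIsoCounit.faithful
  have hunit : ∀ T, P1 i T → IsIso (adj.unit.app T) := fun T hT => isIso_unit_of_suppOn i hT.2
  have hG : ∀ T, P1 i T → Coh.IsCoh (G.obj T) := fun T hT => PullbackMod.isCoh_pullback i T hT.1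
  let g : FreeAbelianGroup (Subtype (P1 i)) →+ KZero.K0sub (fun M : Z.Modules => Coh.IsCoh M) :=
    FreeAbelianGroup.lift fun T => KZero.clSub (fun M : Z.Modules => Coh.IsCoh M) (G.obj T.1)
  have hrel : KZero.relSub (P1 i) ≤ g.ker := by
    rw [KZero.relSub, AddSubgroup.closure_le]
    rintro _ ⟨S, h₁, h₂, h₃, hS, rfl⟩
    haveI := hunit _ h₁
    haveI := hunit _ h₂
    haveI := hunit _ h₃
    let e : S ≅ (S.map G).map F := ShortComplex.isoMk (asIso (adj.unit.app S.X₁)) (asIso (adj.unit.app S.X₂))
      (asIso (adj.unit.app S.X₃)) (adj.unit.naturality S.f).symm (adj.unit.naturality S.g).symm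
    have hS' := ShortComplex.shortExact_of_iso e hS
    haveI : F.PreservesHomology := inferInstance
    have hGS : (S.map G).ShortExact :=
      { exact := ((S.map G).exact_map_iff_of_faithful F).1 hS'.exact
        mono_f := F.mono_of_mono_map hS'.mono_f
        epi_g := F.epi_of_epi_map hS'.epi_g }
    have h := K0ResLib.clSub_add (P := fun M : Z.Modules => Coh.IsCoh M) hGS (hG _ h₁) (hG _ h₂) (hG _ h₃)
    simp only [SetLike.mem_coe, AddMonoidHom.mem_ker, map_sub, g, FreeAbelianGroup.lift_apply_of]
    rw [sub_sub, sub_eq_zero]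
    exact h
  let Ψ : KZero.K0sub (P1 i) →+ KZero.K0sub (fun M : Z.Modules => Coh.IsCoh M) := QuotientAddGroup.lift _ g hrel
  refine Function.bijective_iff_has_inverse.2 ⟨Ψ, ?_, ?_⟩
  · refine DFunLike.congr_fun (show Ψ.comp (SGA6.mapSub F _ (P1 i) fun _ h => p1_push i h) = AddMonoidHom.id _ from
      QuotientAddGroup.addMonoidHom_ext _ (FreeAbelianGroup.lift_ext _ _ fun M => ?_))
    show Ψ (QuotientAddGroup.mk (FreeAbelianGroup.of ⟨F.obj M.1, p1_push i M.2⟩)) = QuotientAddGroup.mk (FreeAbelianGroup.of M)
    refine (FreeAbelianGroup.lift_apply_of _ _).trans (Eq.trans ?_ (K0ResLib.clSub_of M.2))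
    haveI := isIso_counit_closedImmersion i M.1
    exact KZeroLib.Devissage.cl_iso (KZeroLib.Devissage.hyp' (X := Z)) (asIso (adj.counit.app M.1)).symm M.2
  · refine DFunLike.congr_fun (show (SGA6.mapSub F _ (P1 i) fun _ h => p1_push i h).comp Ψ = AddMonoidHom.id _ from
      QuotientAddGroup.addMonoidHom_ext _ (FreeAbelianGroup.lift_ext _ _ fun T => ?_))
    show SGA6.mapSub F _ (P1 i) (fun _ h => p1_push i h) (Ψ (QuotientAddGroup.mk (FreeAbelianGroup.of T))) =
      QuotientAddGroup.mk (FreeAbelianGroup.of T)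
    rw [show Ψ (QuotientAddGroup.mk (FreeAbelianGroup.of T)) = _ from FreeAbelianGroup.lift_apply_of _ _,
      K0ResLib.clSub_of (hG _ T.2)]
    haveI := hunit _ T.2
    refine Eq.trans ?_ ((cl_iso (nice1 i) (asIso (adj.unit.app T.1)) T.2).symm.trans (K0ResLib.clSub_of T.2))
    exact (K0ResLib.clSub_of (p1_push i (hG _ T.2))).symm

end Groth.Agent.K0Fam
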