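import Groth.Agent.K0Fam.TopStalk

/-! # The index of a framed module at a point of codimension one -/

set_option autoImplicit false
set_option backward.isDefEq.respectTransparency false
set_option linter.style.haveILetI false
set_option linter.unusedSectionVars false

universe u

open CategoryTheory CategoryTheory.Limits AlgebraicGeometry TopologicalSpace
open Groth.Agent.PullbackMod Groth.Agent.DevLib Groth.Agent.OrdDet

noncomputable section

namespace Groth.Agent.K0Fam

section Pi

variable {R : Type u} [CommRing R] {I : Type u} {V : I → Type u} [∀ i, AddCommGroup (V i)] [∀ i, Module R (V i)]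

open Classical in
theorem qlen_pi (s : Finset I) (hs : ∀ i, i ∉ s → Subsingleton (V i)) (L K : ∀ i, Submodule R (V i)) :
    qlen (Submodule.pi Set.univ L) (Submodule.pi Set.univ K) = ∑ i ∈ s, qlen (L i) (K i) := by
  let P := Submodule.pi Set.univ L
  let Φ : P →ₗ[R] ((i : s) → (L i.1) ⧸ (K i.1).submoduleOf (L i.1)) := LinearMap.pi fun i =>
    (Submodule.mkQ _).comp (((LinearMap.proj i.1).domRestrict P).codRestrict (L i.1) fun v => v.2 i.1 trivial)
  have hsur : Function.Surjective Φ := fun w => by
    choose v hv using fun i : s => Submodule.Quotient.mk_surjective _ (w i)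
    refine ⟨⟨fun i => if h : i ∈ s then (v ⟨i, h⟩).1 else 0, fun i _ => ?_⟩, funext fun i => ?_⟩
    · dsimp only
      split_ifs with h
      · exact (v ⟨i, h⟩).2
      · exact zero_mem _
    · refine Eq.trans ?_ (hv i)
      exact congrArg Submodule.Quotient.mk (Subtype.ext (by simp [i.2]))
  have hker : LinearMap.ker Φ = (Submodule.pi Set.univ K).submoduleOf P := by
    ext ⟨v, hv⟩
    constructor
    · intro h i _
      by_cases hi : i ∈ s
      · have h0 : Submodule.Quotient.mk (p := (K i).submoduleOf (L i)) ⟨v i, hv i trivial⟩ = 0 := congrFun h ⟨i, hi⟩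
        exact ((Submodule.Quotient.mk_eq_zero _).1 h0 :)
      · haveI := hs i hi
        show v i ∈ K i
        rw [Subsingleton.elim (v i) 0]
        exact zero_mem _
    · intro h
      exact funext fun i => (Submodule.Quotient.mk_eq_zero _).2 (h i.1 trivial)
  rw [qlen, show Module.length R (↥P ⧸ (Submodule.pi Set.univ K).submoduleOf P) = _ from
    ((Submodule.quotEquivOfEq _ _ hker.symm).trans (Φ.quotKerEquivOfSurjective hsur)).length_eq,
    Module.length_pi_of_fintype, Finset.sum_coe_sort s fun i => Module.length R (↥(L i) ⧸ (K i).submoduleOf (L i))]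
  rfl

theorem dist_pi (s : Finset I) (hs : ∀ i, i ∉ s → Subsingleton (V i)) (L K : ∀ i, Submodule R (V i))
    (h : ∀ i, Comm (L i) (K i)) :
    dist (Submodule.pi Set.univ L) (Submodule.pi Set.univ K) = ∑ i ∈ s, dist (L i) (K i) ∧
      Comm (Submodule.pi Set.univ L) (Submodule.pi Set.univ K) := by
  have hinf : Submodule.pi Set.univ L ⊓ Submodule.pi Set.univ K = Submodule.pi Set.univ fun i => L i ⊓ K i := by
    ext v
    simp [Submodule.mem_pi, forall_and]
  constructor
  · simp only [dist, hinf, qlen_pi s hs]
    rw [ENat.toNat_sum fun i _ => (h i).1, ENat.toNat_sum fun i _ => (h i).2, Finset.sum_sub_distrib]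
    push_cast
    rfl
  · rw [Comm, hinf, qlen_pi s hs, qlen_pi s hs]
    exact ⟨(ENat.sum_lt_top.2 fun i _ => lt_top_iff_ne_top.2 (h i).1).ne,
      (ENat.sum_lt_top.2 fun i _ => lt_top_iff_ne_top.2 (h i).2).ne⟩

theorem qlen_restrictScalars {A : Type u} [CommRing A] [Algebra R A] (hs : Function.Surjective (algebraMap R A))
    {W : Type u} [AddCommGroup W] [Module A W] [Module R W] [IsScalarTower R A W] (L K : Submodule A W) :
    qlen (L.restrictScalars R) (K.restrictScalars R) = qlen L K := by
  refine Eq.trans ?_ (Module.length_eq_of_surjective (M := ↥L ⧸ K.submoduleOf L) hs)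
  exact (Submodule.Quotient.restrictScalarsEquiv R (K.submoduleOf L)).length_eq

end Pi

variable {X : Scheme.{u}} [IsLocallyNoetherian X] {δ : X → ℤ} {k : ℤ} (F : Subtype (SSP δ k))

/-- Bases of the stalks at all points of top dimension. -/
abbrev Frame : Type u :=
  ∀ η : Top δ k, Module.Basis (Fin (Module.finrank (X.residueField η.1) (KV F η))) (X.residueField η.1) (KV F η)

/-- A frame. -/
def frame : Frame F := fun η => Module.finBasis (X.residueField η.1) (KV F η)

variable {F} {x : X}

variable (x) in
/-- The lattice of a frame. -/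
def latt (b : Frame F) : Submodule (X.presheaf.stalk x) (VX F x) :=
  Submodule.pi Set.univ fun η => Submodule.span (X.presheaf.stalk x) (Set.range (b η.1))

variable (x) in
/-- The index. -/
def chi (b : Frame F) : ℤ :=
  ((Module.length (X.presheaf.stalk x) (LinearMap.ker (toVX F x))).toNat : ℤ) +
    dist (LinearMap.range (toVX F x)) (latt x b)

variable (hδ : Cyc.IsDimFun X δ)
include hδ

theorem fg_latt (b : Frame F) : (latt x b).FG := by
  let S := (finite_support F (x := x) hδ).toFinset
  let ρ : VX F x →ₗ[X.presheaf.stalk x] ((η : S) → KV F η.1.1) := LinearMap.pi fun η => LinearMap.proj η.1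
  have hρ : Function.Injective ρ := fun v w h => funext fun η => by
    by_cases hη : η ∈ S
    · exact congrFun h ⟨η, hη⟩
    · haveI := not_nontrivial_iff_subsingleton.1 (fun hn => hη ((Set.Finite.mem_toFinset _).2 hn))
      exact Subsingleton.elim _ _
  refine Submodule.fg_of_fg_map_injective ρ hρ ?_
  let N := fun η : S => Submodule.span (X.presheaf.stalk x) (Set.range (b η.1.1))
  haveI : ∀ η, IsNoetherian (X.presheaf.stalk x) (N η) := fun η =>
    isNoetherian_of_fg_of_noetherian _ (Submodule.fg_span (Set.finite_range _))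
  let j : ((η : S) → N η) →ₗ[X.presheaf.stalk x] ((η : S) → KV F η.1.1) :=
    LinearMap.pi fun η => (N η).subtype.comp (LinearMap.proj η)
  have hle : (latt x b).map ρ ≤ LinearMap.range j := by
    rintro _ ⟨v, hv, rfl⟩
    exact ⟨fun η => ⟨v η.1, hv η.1 trivial⟩, rfl⟩
  haveI : IsNoetherian (X.presheaf.stalk x) (LinearMap.range j) := isNoetherian_range j
  exact isNoetherian_submodule.1 inferInstance _ hle

theorem comm_range_latt (hx : δ x = k) (b : Frame F) : Comm (LinearMap.range (toVX F x)) (latt x b) := by
  haveI := CycLib.finite_stalk F.2.1.1 x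
  have hR : (LinearMap.range (toVX F x)).FG := by
    rw [← Submodule.map_top]
    exact (Module.Finite.fg_top).map _
  rw [Comm, qlen_congr_inf, inf_comm, qlen_congr_inf]
  constructor
  · refine qlen_ne_top_of_local hR fun p hp v _ => ?_
    obtain ⟨s, hs, hs0⟩ := exists_smul_eq_single F hδ hx hp
    by_cases he : ∃ η : Tx δ k x, η.1.1 = X.fromSpecStalk x p
    swap
    · push Not at he
      exact ⟨s, hs, fun η _ => by
        show s • v η ∈ Submodule.span _ _
        rw [hs0 η (he η)]; exact zero_mem _⟩
    obtain ⟨η, he⟩ := he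
    choose a d hd hc using fun j => CycLib.exists_fraction η.2 ((b η.1).repr (v η) j)
    refine ⟨s * ∏ j, d j, fun h => (p.2.mem_or_mem h).elim hs fun h' => ?_, fun η' _ => ?_⟩
    · obtain ⟨j, -, hj⟩ := p.2.prod_mem_iff.1 h'
      exact (notMem_iff η he (d j)).2 (hd j) hj
    show (s * ∏ j, d j) • v η' ∈ Submodule.span _ _
    by_cases hη' : η'.1.1 = X.fromSpecStalk x p
    · obtain rfl : η' = η := Subtype.ext (Subtype.ext (hη'.trans he.symm))
      rw [mul_smul]
      refine Submodule.smul_mem _ s ?_
      rw [← (b η'.1).sum_repr (v η'), Finset.smul_sum]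
      refine sum_mem fun j _ => ?_
      classical
      rw [smul_top_def, smul_smul, hc j, ← Finset.prod_erase_mul _ _ (Finset.mem_univ j), map_mul, mul_assoc,
        mul_div_cancel₀ _ (hd j), ← map_mul, ← smul_top_def]
      exact Submodule.smul_mem _ _ (Submodule.subset_span ⟨j, rfl⟩)
    · rw [mul_comm, mul_smul, hs0 η' hη', smul_zero]; exact zero_mem _
  · exact qlen_ne_top_of_local (fg_latt hδ b) fun p hp v _ => exists_smul_mem_range F hδ hx hp v

theorem chi_change (hx : δ x = k) (b b' : Frame F) :
    chi x b - chi x b' = ∑ η ∈ (finite_support F (x := x) hδ).toFinset,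
      Cyc.ordAt x η.1.1 η.2 (LinearMap.det ((b' η.1).equiv (b η.1) (Equiv.refl _)).toLinearMap) := by
  have hc := comm_range_latt hδ hx b
  have hc' := comm_range_latt hδ hx b'
  rw [chi, chi, dist_trans hc' (hc'.symm.trans hc), add_sub_add_left_eq_sub, add_sub_cancel_left]
  have hloc : ∀ η : Tx δ k x,
      Comm (Submodule.span (X.presheaf.stalk x) (Set.range (b' η.1)))
          (Submodule.span (X.presheaf.stalk x) (Set.range (b η.1))) ∧
        dist (Submodule.span (X.presheaf.stalk x) (Set.range (b' η.1)))
          (Submodule.span (X.presheaf.stalk x) (Set.range (b η.1))) =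
        Cyc.ordAt x η.1.1 η.2 (LinearMap.det ((b' η.1).equiv (b η.1) (Equiv.refl _)).toLinearMap) := fun η => by
    let A := Cyc.LocQuot x η.1.1 η.2
    haveI := CycLib.isFractionRing_locQuot η.2
    haveI : Ring.KrullDimLE 1 A := CycLib.krullDimLE_locQuot hδ η.2 (by rw [hx, η.1.2])
    letI : Module A (KV F η.1) := Module.compHom _ (algebraMap A (X.residueField η.1.1))
    haveI : IsScalarTower A (X.residueField η.1.1) (KV F η.1) := .of_algebraMap_smul fun _ _ => rfl
    haveI : IsScalarTower (X.presheaf.stalk x) A (KV F η.1) := .of_algebraMap_smul fun _ _ => rfl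
    have hs : Function.Surjective (algebraMap (X.presheaf.stalk x) A) := Ideal.Quotient.mk_surjective
    let M := Submodule.span A (Set.range (b' η.1))
    let φ := (b' η.1).equiv (b η.1) (Equiv.refl _)
    have hM : Submodule.span (X.residueField η.1.1) (M : Set (KV F η.1)) = ⊤ :=
      eq_top_iff.2 ((b' η.1).span_eq.ge.trans (Submodule.span_mono Submodule.subset_span))
    obtain ⟨-, h1, h2, h3⟩ := latticeDist M (Submodule.fg_span (Set.finite_range _)) hM φ
    have hMφ : M.map (φ.toLinearMap.restrictScalars A) = Submodule.span A (Set.range (b η.1)) := by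
      rw [Submodule.map_span, ← Set.range_comp]
      congr 2
      funext j
      exact (b' η.1).equiv_apply j _ _
    rw [hMφ] at h1 h2 h3
    have e1 : ∀ t : Set (KV F η.1), (Submodule.span A t).restrictScalars (X.presheaf.stalk x) =
        Submodule.span (X.presheaf.stalk x) t := fun t => Submodule.restrictScalars_span _ _ hs t
    refine ⟨?_, ?_⟩
    · rw [Comm, ← e1, ← e1, ← Submodule.restrictScalars_inf, qlen_restrictScalars hs, qlen_restrictScalars hs]
      exact ⟨h1.ne, h2.ne⟩
    · rw [dist, ← e1, ← e1, ← Submodule.restrictScalars_inf, qlen_restrictScalars hs, qlen_restrictScalars hs]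
      exact h3
  rw [latt, latt, (dist_pi (finite_support F (x := x) hδ).toFinset (fun η hη => not_nontrivial_iff_subsingleton.1
    fun hn => hη ((Set.Finite.mem_toFinset _).2 hn)) _ _ fun η => (hloc η).1).1]
  exact Finset.sum_congr rfl fun η _ => (hloc η).2

variable {F' F'' : Subtype (SSP δ k)} (f : F'.1 ⟶ F.1) (g : F.1 ⟶ F''.1) (w : f ≫ g = 0)
  (hS : (ShortComplex.mk f g w).ShortExact)
include hS

theorem injective_vxMap : Function.Injective (vxMap x f) := fun v v' h => funext fun η =>
  DevLib.stalk_injective hS η.1.1 (congrFun h η)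

theorem range_vxMap : LinearMap.range (vxMap x f) = LinearMap.ker (vxMap x g) := by
  apply le_antisymm
  · rintro _ ⟨v, rfl⟩
    exact funext fun η => (DevLib.stalk_exact hS η.1.1 _).2 ⟨v η, rfl⟩
  · intro v hv
    choose u hu using fun η : Tx δ k x => (DevLib.stalk_exact hS η.1.1 (v η)).1 (congrFun hv η)
    exact ⟨u, funext hu⟩

omit hδ in
theorem exists_comb (b' : Frame F') (b'' : Frame F'') : ∃ b : Frame F, ∀ η : Top δ k,
    ∃ t : Fin (Module.finrank (X.residueField η.1) (KV F'' η)) → KV F η, (∀ j, kvMap g η (t j) = b'' η j) ∧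
      Set.range (b η) = Set.range (fun i => kvMap f η (b' η i)) ∪ Set.range t := by
  suffices h : ∀ η : Top δ k,
      ∃ (bη : Module.Basis (Fin (Module.finrank (X.residueField η.1) (KV F η))) (X.residueField η.1) (KV F η))
        (t : Fin (Module.finrank (X.residueField η.1) (KV F'' η)) → KV F η), (∀ j, kvMap g η (t j) = b'' η j) ∧
        Set.range bη = Set.range (fun i => kvMap f η (b' η i)) ∪ Set.range t by
    choose b t h1 h2 using h
    exact ⟨b, fun η => ⟨t η, h1 η, h2 η⟩⟩
  intro η
  let fk := kvMap f η
  let gk := kvMap g η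
  have hinj : Function.Injective fk := DevLib.stalk_injective hS η.1
  have hex : Function.Exact fk gk := DevLib.stalk_exact hS η.1
  have hsurj : Function.Surjective gk := DevLib.stalk_surjective hS η.1
  choose t ht using fun j => hsurj (b'' η j)
  let v := Sum.elim (fun i => fk (b' η i)) t
  have hli : LinearIndependent (X.residueField η.1) v := by
    refine Fintype.linearIndependent_iff.2 fun c hc => ?_
    rw [Fintype.sum_sum_type] at hc
    have h2 := congrArg gk hc
    simp only [map_add, map_sum, map_smul, map_zero, v, Sum.elim_inl, Sum.elim_inr] at h2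
    rw [Finset.sum_eq_zero fun i _ => by rw [hex.apply_apply_eq_zero, smul_zero], zero_add,
      show (fun j => c (Sum.inr j) • gk (t j)) = fun j => c (Sum.inr j) • b'' η j from funext fun j => by
        rw [show gk (t j) = b'' η j from ht j]] at h2
    have hr := Fintype.linearIndependent_iff.1 (b'' η).linearIndependent _ h2
    simp only [v, Sum.elim_inl, Sum.elim_inr, hr, zero_smul, Finset.sum_const_zero, add_zero] at hc
    have hl := Fintype.linearIndependent_iff.1 (b' η).linearIndependent (fun i => c (Sum.inl i))
      (hinj (by rw [map_zero, map_sum, ← hc]; simp only [map_smul]))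
    rintro (i | j)
    · exact hl i
    · exact hr j
  have hsp : ⊤ ≤ Submodule.span (X.residueField η.1) (Set.range v) := fun y _ => by
    rw [Set.Sum.elim_range, Submodule.span_union]
    have h1 := (b'' η).sum_repr (gk y)
    have h2 : y - ∑ j, (b'' η).repr (gk y) j • t j ∈ LinearMap.range fk := (hex _).1 (by
      simp only [map_sub, map_sum, map_smul]
      rw [show (fun j => (b'' η).repr (gk y) j • gk (t j)) = fun j => (b'' η).repr (gk y) j • b'' η j from
        funext fun j => by rw [show gk (t j) = b'' η j from ht j], h1, sub_self])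
    obtain ⟨u, hu⟩ := h2
    refine Submodule.mem_sup.2 ⟨fk u, ?_, _, sum_mem fun j _ => Submodule.smul_mem _ _ (Submodule.subset_span ⟨j, rfl⟩),
      by rw [hu]; exact sub_add_cancel _ _⟩
    rw [← (b' η).sum_repr u, map_sum]
    exact sum_mem fun i _ => by rw [map_smul]; exact Submodule.smul_mem _ _ (Submodule.subset_span ⟨i, rfl⟩)
  let B := Module.Basis.mk hli hsp
  let e := B.indexEquiv (Module.finBasis (X.residueField η.1) (KV F η))
  refine ⟨B.reindex e, t, ht, ?_⟩
  rw [Module.Basis.range_reindex, Module.Basis.coe_mk, Set.Sum.elim_range]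

theorem chi_add (hx : δ x = k) (b' : Frame F') (b'' : Frame F'') (b : Frame F)
    (hb : ∀ η : Top δ k, ∃ t : Fin (Module.finrank (X.residueField η.1) (KV F'' η)) → KV F η,
      (∀ j, kvMap g η (t j) = b'' η j) ∧ Set.range (b η) = Set.range (fun i => kvMap f η (b' η i)) ∪ Set.range t) :
    chi x b = chi x b' + chi x b'' := by
  choose t ht hrange using hb
  let fv := vxMap x f
  let gv := vxMap x g
  have hfv : Function.Injective fv := injective_vxMap hδ f g w hS
  have hfg : LinearMap.range fv = LinearMap.ker gv := range_vxMap hδ f g w hS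
  have hspan : ∀ η : Tx δ k x, Submodule.span (X.presheaf.stalk x) (Set.range (b η.1)) =
      (Submodule.span (X.presheaf.stalk x) (Set.range (b' η.1))).map
          ((kvMap f η.1).restrictScalars (X.presheaf.stalk x)) ⊔
        Submodule.span (X.presheaf.stalk x) (Set.range (t η.1)) := fun η => by
    rw [hrange, Submodule.span_union, Submodule.map_span, ← Set.range_comp]
    rfl
  have hmap : (latt x b).map gv = latt x b'' := by
    apply le_antisymm
    · rintro _ ⟨v, hv, rfl⟩ η -
      have h : v η ∈ Submodule.span (X.presheaf.stalk x) (Set.range (b η.1)) := hv η trivial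
      rw [hspan] at h
      obtain ⟨_, ⟨u, -, rfl⟩, c, hc, e⟩ := Submodule.mem_sup.1 h
      show kvMap g η.1 (v η) ∈ _
      rw [← e, map_add, show kvMap g η.1 (((kvMap f η.1).restrictScalars (X.presheaf.stalk x)) u) = 0 from
        (DevLib.stalk_exact hS η.1.1 _).2 ⟨u, rfl⟩, zero_add]
      have := Submodule.mem_map_of_mem (f := (kvMap g η.1).restrictScalars (X.presheaf.stalk x)) hc
      rw [Submodule.map_span, ← Set.range_comp] at this
      rwa [show ⇑((kvMap g η.1).restrictScalars (X.presheaf.stalk x)) ∘ t η.1 = b'' η.1 from funext (ht η.1)] at this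
    · intro v hv
      choose c hc using fun η : Tx δ k x => (Submodule.mem_span_range_iff_exists_fun _).1 (hv η trivial)
      refine ⟨fun η => ∑ j, c η j • t η.1 j, fun η _ => ?_, funext fun η => ?_⟩
      · show _ ∈ Submodule.span _ _
        rw [hrange]
        exact sum_mem fun j _ => Submodule.smul_mem _ _ (Submodule.subset_span (Or.inr ⟨j, rfl⟩))
      · show ((kvMap g η.1).restrictScalars (X.presheaf.stalk x)) (∑ j, c η j • t η.1 j) = v η
        rw [map_sum, ← hc η]
        exact Finset.sum_congr rfl fun j _ => (map_smul _ _ _).trans (congrArg _ (ht η.1 j))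
  have hcomap : (latt x b).comap fv = latt x b' := by
    apply le_antisymm
    · intro v hv η _
      have h : kvMap f η.1 (v η) ∈ Submodule.span (X.presheaf.stalk x) (Set.range (b η.1)) := hv η trivial
      rw [hspan] at h
      obtain ⟨_, ⟨u, hu, rfl⟩, c, hc, e⟩ := Submodule.mem_sup.1 h
      obtain ⟨r, rfl⟩ := (Submodule.mem_span_range_iff_exists_fun _).1 hc
      have h0 := congrArg ((kvMap g η.1).restrictScalars (X.presheaf.stalk x)) e
      simp only [map_add, map_sum, map_smul] at h0
      rw [show ((kvMap g η.1).restrictScalars (X.presheaf.stalk x)) (((kvMap f η.1).restrictScalars (X.presheaf.stalk x)) u) = 0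
          from (DevLib.stalk_exact hS η.1.1 _).2 ⟨u, rfl⟩, zero_add,
        show ((kvMap g η.1).restrictScalars (X.presheaf.stalk x)) (kvMap f η.1 (v η)) = 0 from
          (DevLib.stalk_exact hS η.1.1 _).2 ⟨v η, rfl⟩] at h0
      have hr := Fintype.linearIndependent_iff.1 (b'' η.1).linearIndependent
        (fun j => Cyc.specMap x η.1.1 η.2 (r j)) (Eq.trans (Finset.sum_congr rfl fun j _ => by
          rw [← ht η.1 j]; rfl) h0)
      rw [Finset.sum_eq_zero fun j _ => smul_top_eq_zero F η (hr j) _, add_zero] at e
      rwa [DevLib.stalk_injective hS η.1.1 e] at hu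
    · intro v hv η _
      show kvMap f η.1 (v η) ∈ Submodule.span _ _
      rw [hspan]
      exact Submodule.mem_sup_left (Submodule.mem_map_of_mem (hv η trivial))
  let fx := stalkLin f x
  let gx := stalkLin g x
  let π := toVX F x
  let π' := toVX F' x
  let π'' := toVX F'' x
  have nf : fv.comp π' = π.comp fx := vxMap_toVX (x := x) f
  have ng : gv.comp π = π''.comp gx := vxMap_toVX (x := x) g
  have hgx : Function.Surjective gx := DevLib.stalk_surjective hS x
  have hfx : Function.Injective fx := DevLib.stalk_injective hS x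
  have hL'' : (LinearMap.range π).map gv = LinearMap.range π'' := by
    rw [← LinearMap.range_comp, ng, LinearMap.range_comp_of_range_eq_top _ (LinearMap.range_eq_top.2 hgx)]
  obtain ⟨hd, hc', hc''⟩ := dist_exact fv gv hfv hfg (comm_range_latt hδ hx b)
  rw [hcomap, hmap, hL''] at hd
  rw [hcomap] at hc'
  -- the kernels
  let P := LinearMap.ker (π''.comp gx)
  let A := LinearMap.range fx
  have hAP : A ≤ P := by
    rintro _ ⟨z, rfl⟩
    show π'' (gx (fx z)) = 0
    rw [(DevLib.stalk_exact hS x _).2 ⟨z, rfl⟩, map_zero]
  have hA : A = LinearMap.ker gx := (LinearMap.exact_iff.1 (DevLib.stalk_exact hS x)).symm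
  have hfull : ∀ {W : Type u} [AddCommGroup W] [Module (X.presheaf.stalk x) W] (N : Submodule (X.presheaf.stalk x) W),
      qlen N ⊥ = Module.length (X.presheaf.stalk x) N := fun N =>
    (Submodule.quotEquivOfEqBot _ (by ext; simp [Submodule.submoduleOf])).length_eq
  have e1 : qlen P A = Module.length (X.presheaf.stalk x) (LinearMap.ker π'') := by
    rw [qlen_exact fx gx hfx hA hAP, show P.comap fx = ⊤ from eq_top_iff.2 fun z _ => hAP ⟨z, rfl⟩,
      show A.comap fx = ⊤ from eq_top_iff.2 fun z _ => (⟨z, rfl⟩ : fx z ∈ A), qlen_self, zero_add,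
      show P.map gx = LinearMap.ker π'' from by
        rw [show P = (LinearMap.ker π'').comap gx from LinearMap.ker_comp _ _,
          Submodule.map_comap_eq_of_surjective hgx],
      show A.map gx = ⊥ from by
        rw [hA, eq_bot_iff]
        rintro _ ⟨z, hz, rfl⟩
        exact hz, hfull]
  let K := LinearMap.ker π
  have e2 : qlen P A = qlen K ((A.comap K.subtype).map K.subtype) + qlen (P.map π) (A.map π) := by
    rw [qlen_exact K.subtype π Subtype.val_injective (Submodule.range_subtype K) hAP, ← qlen_map K.subtype Subtype.val_injective]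
    congr 2
    rw [Submodule.map_comap_subtype]
    refine inf_eq_left.2 fun z hz => ?_
    show π'' (gx z) = 0
    rw [← LinearMap.comp_apply, ← ng, LinearMap.comp_apply, show π z = 0 from hz, map_zero]
  have hAK : (A.comap K.subtype).map K.subtype = (LinearMap.ker π').map fx := by
    rw [Submodule.map_comap_subtype]
    ext z
    constructor
    · rintro ⟨hz, ⟨u, rfl⟩⟩
      refine ⟨u, hfv ?_, rfl⟩
      rw [map_zero, ← LinearMap.comp_apply, nf]
      exact hz
    · rintro ⟨u, hu, rfl⟩
      refine ⟨?_, u, rfl⟩
      show π (fx u) = 0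
      rw [← LinearMap.comp_apply, ← nf, LinearMap.comp_apply, show π' u = 0 from hu, map_zero]
  have e3 : Module.length (X.presheaf.stalk x) K =
      Module.length (X.presheaf.stalk x) (LinearMap.ker π') + qlen K ((LinearMap.ker π').map fx) := by
    rw [← hfull K, qlen_add (bot_le (a := (LinearMap.ker π').map fx)) (hAK.ge.trans (Submodule.map_subtype_le _ _))]
    congr 1
    rw [← Submodule.map_bot fx, qlen_map fx hfx, hfull]
  have e4 : qlen (P.map π) (A.map π) = qlen ((LinearMap.range π).comap fv) (LinearMap.range π') := by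
    rw [← qlen_map fv hfv, Submodule.map_comap_eq, hfg]
    congr 1
    · ext v
      constructor
      · rintro ⟨z, hz, rfl⟩
        refine ⟨?_, z, rfl⟩
        show gv (π z) = 0
        rw [← LinearMap.comp_apply, ng]
        exact hz
      · rintro ⟨hv, z, rfl⟩
        refine ⟨z, ?_, rfl⟩
        show π''.comp gx z = 0
        rw [← ng]
        exact hv
    · rw [← LinearMap.range_comp, ← LinearMap.range_comp, nf]
  have hk := length_ker_ne_top F hδ hx
  have hk' := length_ker_ne_top F' hδ hx
  have hk'' := length_ker_ne_top F'' hδ hx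
  rw [e3, ne_eq, ENat.add_eq_top, not_or] at hk
  rw [← e1, e2, hAK, e4, ne_eq, ENat.add_eq_top, not_or] at hk''
  have n1 := congrArg ENat.toNat e3
  have n2 := congrArg ENat.toNat (e1.symm.trans e2)
  rw [ENat.toNat_add hk.1 hk.2] at n1
  rw [hAK, e4, ENat.toNat_add hk''.1 hk''.2] at n2
  have hle : LinearMap.range π' ≤ (LinearMap.range π).comap fv := by
    rintro _ ⟨z, rfl⟩
    exact ⟨fx z, (LinearMap.congr_fun nf z).symm⟩
  have hcC : Comm (LinearMap.range π') ((LinearMap.range π).comap fv) := by
    refine ⟨?_, ?_⟩
    · rw [inf_eq_left.2 hle, qlen_self]; exact ENat.zero_ne_top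
    · rw [inf_eq_left.2 hle]; exact hk''.2
  have hdC : dist (LinearMap.range π') ((LinearMap.range π).comap fv) =
      -((qlen ((LinearMap.range π).comap fv) (LinearMap.range π')).toNat : ℤ) := by
    rw [dist, inf_eq_left.2 hle, qlen_self]
    simp
  simp only [chi]
  rw [hd, show toVX F' x = π' from rfl, dist_trans hcC hc', hdC]
  show ((Module.length (X.presheaf.stalk x) K).toNat : ℤ) + _ =
    ((Module.length (X.presheaf.stalk x) (LinearMap.ker π')).toNat : ℤ) + _ +
      (((Module.length (X.presheaf.stalk x) (LinearMap.ker π'')).toNat : ℤ) + _)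
  rw [n1, n2]
  push_cast
  ring

end Groth.Agent.K0Fam
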