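import Groth.Agent.OrdDet.Lattice
import Groth.Agent.S16234

/-! # Signed distances of lattices -/

set_option autoImplicit false
set_option backward.isDefEq.respectTransparency false
set_option linter.style.haveILetI false
set_option linter.unusedSectionVars false

universe u

open Groth.Agent.OrdDet

noncomputable section

namespace Groth.Agent.K0Fam

variable {R : Type u} [CommRing R] {V : Type u} [AddCommGroup V] [Module R V]

/-- Commensurable submodules. -/
def Comm (L N : Submodule R V) : Prop := qlen L (L ⊓ N) ≠ ⊤ ∧ qlen N (L ⊓ N) ≠ ⊤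

/-- The signed distance. -/
def dist (L N : Submodule R V) : ℤ := ((qlen L (L ⊓ N)).toNat : ℤ) - ((qlen N (L ⊓ N)).toNat : ℤ)

theorem qlen_congr_inf (A M : Submodule R V) : qlen A (A ⊓ M) = qlen A M := by
  unfold qlen
  exact (Submodule.quotEquivOfEq _ _ (by ext ⟨a, ha⟩; exact ⟨fun h => h.2, fun h => ⟨ha, h⟩⟩)).length_eq

theorem qlen_le_of_le {A B : Submodule R V} (M : Submodule R V) (h : A ≤ B) : qlen A M ≤ qlen B M := by
  refine Module.length_le_of_injective
    (Submodule.mapQ (M.submoduleOf A) (M.submoduleOf B) (Submodule.inclusion h) (fun x hx => hx)) ?_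
  refine (injective_iff_map_eq_zero _).2 fun z hz => ?_
  induction z using Submodule.Quotient.induction_on with
  | H x =>
    exact (Submodule.Quotient.mk_eq_zero (M.submoduleOf A)).2
      ((Submodule.Quotient.mk_eq_zero (M.submoduleOf B)).1 hz)

theorem qlen_ne_top_of_le {K L M : Submodule R V} (h1 : K ≤ L) (h2 : L ≤ M) (hL : qlen L K ≠ ⊤)
    (hM : qlen M L ≠ ⊤) : qlen M K ≠ ⊤ := by
  rw [qlen_add h1 h2]
  exact (ENat.add_lt_top.2 ⟨lt_top_iff_ne_top.2 hL, lt_top_iff_ne_top.2 hM⟩).ne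

theorem dist_eq {K L N : Submodule R V} (hL : K ≤ L) (hN : K ≤ N) (h1 : qlen L K ≠ ⊤) (h2 : qlen N K ≠ ⊤) :
    dist L N = ((qlen L K).toNat : ℤ) - ((qlen N K).toNat : ℤ) := by
  have hK : K ≤ L ⊓ N := le_inf hL hN
  rw [qlen_add hK inf_le_left] at h1 ⊢
  rw [qlen_add hK inf_le_right] at h2 ⊢
  rw [ne_eq, ENat.add_eq_top, not_or] at h1 h2
  rw [ENat.toNat_add h1.1 h1.2, ENat.toNat_add h2.1 h2.2, dist]
  omega

theorem dist_self (L : Submodule R V) : dist L L = 0 := by simp [dist]

theorem Comm.symm {L N : Submodule R V} (h : Comm L N) : Comm N L := by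
  rw [Comm, inf_comm]
  exact ⟨h.2, h.1⟩

theorem Comm.exists_le {L N M : Submodule R V} (h : Comm L N) (h' : Comm N M) :
    qlen L (L ⊓ N ⊓ M) ≠ ⊤ ∧ qlen N (L ⊓ N ⊓ M) ≠ ⊤ ∧ qlen M (L ⊓ N ⊓ M) ≠ ⊤ := by
  have h1 : qlen (L ⊓ N) (L ⊓ N ⊓ M) ≠ ⊤ := by
    rw [qlen_congr_inf]
    refine ne_top_of_le_ne_top ?_ (qlen_le_of_le M inf_le_right)
    rw [← qlen_congr_inf]
    exact h'.1
  have h2 : qlen (N ⊓ M) (L ⊓ N ⊓ M) ≠ ⊤ := by
    rw [inf_assoc, inf_comm L, qlen_congr_inf]
    refine ne_top_of_le_ne_top ?_ (qlen_le_of_le L inf_le_left)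
    rw [← qlen_congr_inf, inf_comm]
    exact h.2
  exact ⟨qlen_ne_top_of_le inf_le_left inf_le_left h1 h.1, qlen_ne_top_of_le inf_le_left inf_le_right h1 h.2,
    qlen_ne_top_of_le (le_inf (inf_le_left.trans inf_le_right) inf_le_right) inf_le_right h2 h'.2⟩

theorem Comm.trans {L N M : Submodule R V} (h : Comm L N) (h' : Comm N M) : Comm L M := by
  obtain ⟨a, -, c⟩ := h.exists_le h'
  have hle : L ⊓ N ⊓ M ≤ L ⊓ M := le_inf (inf_le_left.trans inf_le_left) inf_le_right
  rw [qlen_add hle inf_le_left, ne_eq, ENat.add_eq_top, not_or] at a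
  rw [qlen_add hle inf_le_right, ne_eq, ENat.add_eq_top, not_or] at c
  exact ⟨a.2, c.2⟩

theorem dist_trans {L N M : Submodule R V} (h : Comm L N) (h' : Comm N M) : dist L M = dist L N + dist N M := by
  obtain ⟨a, b, c⟩ := h.exists_le h'
  rw [dist_eq (inf_le_left.trans inf_le_left) inf_le_right a c,
    dist_eq (inf_le_left.trans inf_le_left) (inf_le_left.trans inf_le_right) a b,
    dist_eq (inf_le_left.trans inf_le_right) inf_le_right b c]
  omega

variable {W V' : Type u} [AddCommGroup W] [Module R W] [AddCommGroup V'] [Module R V']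

theorem dist_map (f : V →ₗ[R] W) (hf : Function.Injective f) (L N : Submodule R V) :
    dist (L.map f) (N.map f) = dist L N := by
  rw [dist, dist, ← Submodule.map_inf f hf, qlen_map f hf, qlen_map f hf]

/-- Lengths in a short exact sequence. -/
theorem qlen_exact (f : V' →ₗ[R] V) (g : V →ₗ[R] W) (hf : Function.Injective f)
    (hfg : LinearMap.range f = LinearMap.ker g) {K L : Submodule R V} (h : K ≤ L) :
    qlen L K = qlen (L.comap f) (K.comap f) + qlen (L.map g) (K.map g) := by
  let K' := K ⊔ (L ⊓ LinearMap.ker g)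
  have hK' : K' ≤ L := sup_le h inf_le_left
  rw [qlen_add (le_sup_left : K ≤ K') hK']
  congr 1
  · rw [← qlen_map f hf, Submodule.map_comap_eq, Submodule.map_comap_eq, hfg,
      show qlen K' K = Module.length R (↥K' ⧸ K.submoduleOf K') from rfl]
    have e := (LinearMap.quotientInfEquivSupQuotient (L ⊓ LinearMap.ker g) K).length_eq
    refine Eq.trans ?_ (Eq.trans e.symm ?_)
    · show qlen K' K = qlen ((L ⊓ LinearMap.ker g) ⊔ K) K
      rw [sup_comm]
    · show qlen (L ⊓ LinearMap.ker g) ((L ⊓ LinearMap.ker g) ⊓ K) = _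
      rw [inf_comm (LinearMap.ker g) L, inf_comm (LinearMap.ker g) K]
      congr 1
      ext v
      simp only [Submodule.mem_inf]
      exact ⟨fun hv => ⟨hv.2, hv.1.2⟩, fun hv => ⟨⟨h hv.1, hv.2⟩, hv.1⟩⟩
  · let φ : L →ₗ[R] (L.map g) ⧸ (K.map g).submoduleOf (L.map g) :=
      (Submodule.mkQ _).comp ((g.domRestrict L).codRestrict (L.map g) fun x => ⟨x.1, x.2, rfl⟩)
    have hs : Function.Surjective φ := fun z => by
      induction z using Submodule.Quotient.induction_on with
      | H w =>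
        obtain ⟨v, hv, hvw⟩ := w.2
        exact ⟨⟨v, hv⟩, congrArg Submodule.Quotient.mk (Subtype.ext hvw)⟩
    have hk : LinearMap.ker φ = K'.submoduleOf L := by
      ext ⟨v, hv⟩
      refine (Submodule.Quotient.mk_eq_zero _).trans ?_
      show g v ∈ K.map g ↔ v ∈ K'
      constructor
      · rintro ⟨w, hw, hwv⟩
        exact Submodule.mem_sup.2 ⟨w, hw, v - w, ⟨L.sub_mem hv (h hw), by simp [hwv]⟩, by abel⟩
      · intro hv'
        obtain ⟨w, hw, z, hz, rfl⟩ := Submodule.mem_sup.1 hv'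
        exact ⟨w, hw, by simp [show g z = 0 from hz.2]⟩
    exact ((Submodule.quotEquivOfEq _ _ hk.symm).trans (φ.quotKerEquivOfSurjective hs)).length_eq

theorem dist_exact (f : V' →ₗ[R] V) (g : V →ₗ[R] W) (hf : Function.Injective f)
    (hfg : LinearMap.range f = LinearMap.ker g) {L N : Submodule R V} (h : Comm L N) :
    dist L N = dist (L.comap f) (N.comap f) + dist (L.map g) (N.map g) ∧
      Comm (L.comap f) (N.comap f) ∧ Comm (L.map g) (N.map g) := by
  obtain ⟨a, b⟩ := h
  have ea := qlen_exact f g hf hfg (inf_le_left : L ⊓ N ≤ L)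
  have eb := qlen_exact f g hf hfg (inf_le_right : L ⊓ N ≤ N)
  rw [ea, ne_eq, ENat.add_eq_top, not_or] at a
  rw [eb, ne_eq, ENat.add_eq_top, not_or] at b
  refine ⟨?_, ⟨a.1, b.1⟩, ?_⟩
  · rw [dist_eq (Submodule.map_mono inf_le_left) (Submodule.map_mono inf_le_right) a.2 b.2, dist, ea, eb,
      ENat.toNat_add a.1 a.2, ENat.toNat_add b.1 b.2, dist, ← Submodule.comap_inf]
    push_cast
    ring
  · have hle : (L ⊓ N).map g ≤ L.map g ⊓ N.map g := Submodule.map_inf_le g
    have a' := a.2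
    have b' := b.2
    rw [qlen_add hle inf_le_left, ENat.add_eq_top, not_or] at a'
    rw [qlen_add hle inf_le_right, ENat.add_eq_top, not_or] at b'
    exact ⟨a'.2, b'.2⟩

/-- A finitely generated module modulo a submodule containing multiples of everything off the maximal ideal. -/
theorem qlen_ne_top_of_local [IsNoetherianRing R] [IsLocalRing R] {X Y : Submodule R V} (hX : X.FG)
    (h : ∀ p : PrimeSpectrum R, p.asIdeal ≠ IsLocalRing.maximalIdeal R → ∀ y ∈ X, ∃ s ∉ p.asIdeal, s • y ∈ Y) :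
    qlen X Y ≠ ⊤ := by
  haveI : Module.Finite R X := Module.Finite.iff_fg.mpr hX
  refine Module.length_ne_top_iff.2 ((S16234.result _ _).1 fun p hp => ?_)
  by_contra hne
  have hne' : p.asIdeal ≠ IsLocalRing.maximalIdeal R := fun e => hne (e ▸ IsLocalRing.maximalIdeal.isMaximal R)
  obtain ⟨m, hm⟩ := Module.mem_support_iff'.1 hp
  induction m using Submodule.Quotient.induction_on with
  | H x =>
    obtain ⟨s, hs, hsx⟩ := h p hne' x.1 x.2
    refine hm s hs ?_
    rw [← Submodule.Quotient.mk_smul, Submodule.Quotient.mk_eq_zero]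
    exact hsx

end Groth.Agent.K0Fam
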