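import Groth.Agent.K0Fam.Tele

/-! # Classes of filtered modules: independence and additivity -/

set_option autoImplicit false
set_option backward.isDefEq.respectTransparency false
set_option linter.style.haveILetI false
set_option linter.unusedSectionVars false

universe u

open CategoryTheory CategoryTheory.Limits AlgebraicGeometry TopologicalSpace
open Groth.Agent.PullbackMod Groth.Agent.DevLib

noncomputable section

namespace Groth.Agent.K0Fam

variable {X : Scheme.{u}} [IsLocallyNoetherian X] (P : ObjectProperty X.Modules)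

/-- A separated locally finite filtration with graded pieces in `P`, given by its quotients. -/
structure Filt (A : X.Modules) where
  E : ℕ → X.Modules
  π : ∀ j, A ⟶ E j
  epi : ∀ j, Epi (π j)
  coh : ∀ j, Coh.IsCoh (E j)
  s : ∀ j, E (j + 1) ⟶ E j
  fac : ∀ j, π (j + 1) ≫ s j = π j
  zero : IsZero (E 0)
  cohA : Coh.IsCoh A
  fin : LocFinSupp fun j : ULift.{u} ℕ => kernel (π j.down)
  mem : ∀ j, P (kernel (s j))

variable {P} {A : X.Modules}

namespace Filt

variable (F : Filt P A)

/-- The graded pieces. -/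
def gr (j : ULift.{u} ℕ) : X.Modules := kernel (F.s j.down)

/-- The class. -/
def cls : KZero.K0sub P := KZero.clSub P (∐ F.gr)

/-- The projection onto a graded piece. -/
def toGr (j : ℕ) : kernel (F.π j) ⟶ kernel (F.s j) :=
  kernel.lift _ (kernel.ι (F.π j) ≫ F.π (j + 1)) (by rw [Category.assoc, F.fac, kernel.condition])

theorem epi_toGr (j : ℕ) : Epi (F.toGr j) := by
  rw [epi_iff_surjective_up_to_refinements]
  intro T y
  haveI := F.epi (j + 1)
  obtain ⟨T', p, hp, a, ha⟩ := surjective_up_to_refinements_of_epi (F.π (j + 1)) (y ≫ kernel.ι (F.s j))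
  refine ⟨T', p, hp, kernel.lift _ a ?_, ?_⟩
  · rw [← F.fac, ← reassoc_of% ha, kernel.condition, comp_zero, comp_zero]
  · apply (cancel_mono (kernel.ι (F.s j))).1
    simpa [toGr] using ha

theorem support_gr (j : ULift.{u} ℕ) : CohB1.support (F.gr j) ⊆ CohB1.support (kernel (F.π j.down)) :=
  haveI := F.epi_toGr j.down
  support_subset_of_epi (F.toGr j.down)

theorem locFin_gr : LocFinSupp F.gr := LocFin.mono F.fin F.support_gr

theorem coh_kernel (j : ℕ) : Coh.IsCoh (kernel (F.π j)) :=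
  (QCohLib.isCoh_kernel_cokernel _ F.cohA (F.coh j)).1

/-- The intersection of two stages. -/
def T (F F' : Filt P A) (i j : ℕ) : X.Modules := kernel (biprod.lift (F.π i) (F'.π j))

variable {F' : Filt P A}

/-- The inclusion. -/
def tι (F F' : Filt P A) (i j : ℕ) : T F F' i j ⟶ A := kernel.ι _

instance (F F' : Filt P A) (i j : ℕ) : Mono (tι F F' i j) := inferInstanceAs (Mono (kernel.ι _))

theorem tι₁ (i j : ℕ) : tι F F' i j ≫ F.π i = 0 := by
  refine Eq.trans ?_ ((congrArg (fun q => q ≫ biprod.fst) (kernel.condition (biprod.lift (F.π i) (F'.π j)))).trans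
    zero_comp)
  rw [Category.assoc, biprod.lift_fst]
  rfl

theorem tι₂ (i j : ℕ) : tι F F' i j ≫ F'.π j = 0 := by
  refine Eq.trans ?_ ((congrArg (fun q => q ≫ biprod.snd) (kernel.condition (biprod.lift (F.π i) (F'.π j)))).trans
    zero_comp)
  rw [Category.assoc, biprod.lift_snd]
  rfl

/-- Maps into the intersection. -/
def tLift (F F' : Filt P A) (i j : ℕ) {S : X.Modules} (a : S ⟶ A) (h₁ : a ≫ F.π i = 0) (h₂ : a ≫ F'.π j = 0) :
    S ⟶ T F F' i j :=
  kernel.lift _ a (biprod.hom_ext _ _ (by simpa using h₁) (by simpa using h₂))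

theorem tLift_ι (i j : ℕ) {S : X.Modules} (a : S ⟶ A) (h₁ : a ≫ F.π i = 0) (h₂ : a ≫ F'.π j = 0) :
    tLift F F' i j a h₁ h₂ ≫ tι F F' i j = a := kernel.lift_ι _ _ _

theorem coh_T (i j : ℕ) : Coh.IsCoh (T F F' i j) :=
  (QCohLib.isCoh_kernel_cokernel _ F.cohA (DevLib.isCoh_biprod (F.coh i) (F'.coh j))).1

/-- Lowering the first index. -/
def tu (F F' : Filt P A) (i j : ℕ) : T F F' (i + 1) j ⟶ T F F' i j :=
  tLift F F' i j (tι F F' (i + 1) j) (by rw [← F.fac, reassoc_of% (F.tι₁ (i + 1) j), zero_comp]) (F.tι₂ (i + 1) j)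

/-- Lowering the second index. -/
def tv (F F' : Filt P A) (i j : ℕ) : T F F' i (j + 1) ⟶ T F F' i j :=
  tLift F F' i j (tι F F' i (j + 1)) (F.tι₁ i (j + 1))
    (by rw [← F'.fac, reassoc_of% (F.tι₂ (F' := F') i (j + 1)), zero_comp])

theorem tu_ι (i j : ℕ) : tu F F' i j ≫ tι F F' i j = tι F F' (i + 1) j := tLift_ι _ _ _ _ _ _

theorem tv_ι (i j : ℕ) : tv F F' i j ≫ tι F F' i j = tι F F' i (j + 1) := tLift_ι _ _ _ _ _ _

/-- Exchanging the filtrations. -/
def swap (F F' : Filt P A) (i j : ℕ) : T F F' i j ⟶ T F' F j i :=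
  tLift F' F j i (tι F F' i j) (F.tι₂ i j) (F.tι₁ i j)

theorem swap_ι (i j : ℕ) : swap F F' i j ≫ tι F' F j i = tι F F' i j := tLift_ι _ _ _ _ _ _

theorem swap_swap (i j : ℕ) : swap F F' i j ≫ swap F' F j i = 𝟙 _ := by
  rw [← cancel_mono (tι F F' i j), Category.assoc, swap_ι, swap_ι, Category.id_comp]

/-- The map to the graded piece. -/
def r (F F' : Filt P A) (i j : ℕ) : T F F' i j ⟶ kernel (F.s i) :=
  kernel.lift _ (tι F F' i j ≫ F.π (i + 1)) (by rw [Category.assoc, F.fac, F.tι₁])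

theorem r_ι (i j : ℕ) : r F F' i j ≫ kernel.ι (F.s i) = tι F F' i j ≫ F.π (i + 1) := kernel.lift_ι _ _ _

theorem tv_r (i j : ℕ) : tv F F' i j ≫ r F F' i j = r F F' i (j + 1) := by
  rw [← cancel_mono (kernel.ι (F.s i)), Category.assoc, r_ι, r_ι, reassoc_of% (tv_ι F (F' := F') i j)]

/-- The induced filtration of the graded piece. -/
def R (F F' : Filt P A) (i j : ℕ) : X.Modules := Abelian.image (r F F' i j)

/-- The projection. -/
def toR (F F' : Filt P A) (i j : ℕ) : T F F' i j ⟶ R F F' i j := Abelian.factorThruImage _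

/-- The inclusion. -/
def rι (F F' : Filt P A) (i j : ℕ) : R F F' i j ⟶ kernel (F.s i) := Abelian.image.ι _

instance (F F' : Filt P A) (i j : ℕ) : Mono (rι F F' i j) := inferInstanceAs (Mono (Abelian.image.ι _))

instance (F F' : Filt P A) (i j : ℕ) : Epi (toR F F' i j) := inferInstanceAs (Epi (Abelian.factorThruImage _))

theorem toR_ι (i j : ℕ) : toR F F' i j ≫ rι F F' i j = r F F' i j := Abelian.image.fac _

/-- The transition map. -/
def e (F F' : Filt P A) (i j : ℕ) : R F F' i (j + 1) ⟶ R F F' i j :=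
  kernel.lift _ (rι F F' i (j + 1)) ((cancel_epi (toR F F' i (j + 1))).1 (by
    rw [reassoc_of% (toR_ι F (F' := F') i (j + 1)), ← tv_r, Category.assoc, cokernel.condition, comp_zero, comp_zero]))

theorem e_ι (i j : ℕ) : e F F' i j ≫ rι F F' i j = rι F F' i (j + 1) := kernel.lift_ι _ _ _

theorem mono_e (i j : ℕ) : Mono (e F F' i j) := mono_of_mono_fac (e_ι F i j)

theorem toR_e (i j : ℕ) : toR F F' i (j + 1) ≫ e F F' i j = tv F F' i j ≫ toR F F' i j := by
  rw [← cancel_mono (rι F F' i j), Category.assoc, Category.assoc, e_ι, toR_ι, toR_ι, tv_r]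

theorem tu_toR (i j : ℕ) : tu F F' i j ≫ toR F F' i j = 0 := by
  rw [← cancel_mono (rι F F' i j), Category.assoc, toR_ι, zero_comp, ← cancel_mono (kernel.ι (F.s i)),
    Category.assoc, r_ι, reassoc_of% (tu_ι F (F' := F') i j), F.tι₁, zero_comp]

/-- The projection onto a double graded piece. -/
def α (F F' : Filt P A) (i j : ℕ) : T F F' i j ⟶ cokernel (e F F' i j) := toR F F' i j ≫ cokernel.π _

instance (F F' : Filt P A) (i j : ℕ) : Epi (α F F' i j) := by
  unfold α
  exact epi_comp _ _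

theorem tu_α (i j : ℕ) : tu F F' i j ≫ α F F' i j = 0 := by
  rw [α, reassoc_of% (tu_toR F (F' := F') i j), zero_comp]

theorem tv_α (i j : ℕ) : tv F F' i j ≫ α F F' i j = 0 := by
  rw [α, ← reassoc_of% (toR_e F (F' := F') i j), cokernel.condition, comp_zero]

theorem tu_swap (i j : ℕ) : tu F F' i j ≫ swap F F' i j = swap F F' (i + 1) j ≫ tv F' F j i := by
  rw [← cancel_mono (tι F' F j i), Category.assoc, Category.assoc, swap_ι, tv_ι, tu_ι, swap_ι]

theorem tv_swap (i j : ℕ) : tv F F' i j ≫ swap F F' i j = swap F F' i (j + 1) ≫ tu F' F j i := by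
  rw [← cancel_mono (tι F' F j i), Category.assoc, Category.assoc, swap_ι, tu_ι, tv_ι, swap_ι]

theorem kills (i j : ℕ) : kernel.ι (toR F F' i j) ≫ swap F F' i j ≫ α F' F j i = 0 := by
  have h : (kernel.ι (toR F F' i j) ≫ tι F F' i j) ≫ F.π (i + 1) = 0 := by
    rw [Category.assoc, ← r_ι, ← toR_ι, Category.assoc, kernel.condition_assoc, zero_comp]
  have h' : (kernel.ι (toR F F' i j) ≫ tι F F' i j) ≫ F'.π j = 0 := by
    rw [Category.assoc, F.tι₂, comp_zero]
  have hk : kernel.ι (toR F F' i j) = tLift F F' (i + 1) j _ h h' ≫ tu F F' i j := by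
    rw [← cancel_mono (tι F F' i j)]
    simp only [Category.assoc, tu_ι, tLift_ι]
  rw [hk, Category.assoc, reassoc_of% (tu_swap F (F' := F') i j), tv_α, comp_zero, comp_zero]

/-- Comparison of the double graded pieces. -/
def γ (F F' : Filt P A) (i j : ℕ) : cokernel (e F F' i j) ⟶ cokernel (e F' F j i) :=
  cokernel.desc _ (Abelian.epiDesc (toR F F' i j) (swap F F' i j ≫ α F' F j i) (F.kills i j)) (by
    rw [← cancel_epi (toR F F' i (j + 1)), reassoc_of% (toR_e F (F' := F') i j), Abelian.comp_epiDesc, comp_zero,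
      reassoc_of% (tv_swap F (F' := F') i j), tu_α, comp_zero])

theorem α_γ (i j : ℕ) : α F F' i j ≫ γ F F' i j = swap F F' i j ≫ α F' F j i := by
  simp [α, γ]

/-- The double graded pieces are symmetric. -/
def γIso (F F' : Filt P A) (i j : ℕ) : cokernel (e F F' i j) ≅ cokernel (e F' F j i) where
  hom := γ F F' i j
  inv := γ F' F j i
  hom_inv_id := by
    rw [← cancel_epi (α F F' i j), reassoc_of% (α_γ F (F' := F') i j), α_γ, reassoc_of% (swap_swap F (F' := F') i j),
      Category.comp_id]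
  inv_hom_id := by
    rw [← cancel_epi (α F' F j i), reassoc_of% (α_γ F' (F' := F) j i), α_γ, reassoc_of% (swap_swap F' (F' := F) j i),
      Category.comp_id]

theorem epi_r_zero (i : ℕ) : Epi (r F F' i 0) := by
  haveI := F.epi_toGr i
  exact epi_of_epi_fac (f := tLift F F' i 0 (kernel.ι (F.π i)) (kernel.condition _) (F'.zero.eq_of_tgt _ _))
    (h := F.toGr i) (by rw [← cancel_mono (kernel.ι (F.s i)), Category.assoc, r_ι, ← Category.assoc, tLift_ι]; simp [toGr])

theorem isIso_rι_zero (i : ℕ) : IsIso (rι F F' i 0) := by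
  haveI := F.epi_r_zero (F' := F') i
  haveI : Epi (rι F F' i 0) := epi_of_epi_fac (toR_ι F (F' := F') i 0)
  exact isIso_of_mono_of_epi _

variable (hP : Nice P)
include hP

theorem mem_gr (j : ULift.{u} ℕ) : P (F.gr j) := F.mem j.down

theorem mem_R (i j : ℕ) : P (R F F' i j) := by
  have hc := hP.coh (F.mem i)
  exact hP.mono (rι F F' i j)
    ((QCohLib.isCoh_kernel_cokernel _ hc (QCohLib.isCoh_kernel_cokernel (r F F' i j) (F.coh_T i j) hc).2).1) (F.mem i)

omit hP in
theorem locFin_R : LocFinSupp fun p : ULift.{u} ℕ × ULift.{u} ℕ => R F F' p.1.down p.2.down := by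
  refine LocFin.mono (LocFin.prod F.fin F'.fin) fun p => ?_
  refine (support_subset_of_epi (toR F F' p.1.down p.2.down)).trans (Set.subset_inter ?_ ?_)
  · haveI : Mono (kernel.lift (F.π p.1.down) (tι F F' p.1.down p.2.down) (F.tι₁ _ _)) :=
      mono_of_mono_fac (kernel.lift_ι _ _ _)
    exact support_subset_of_mono (kernel.lift (F.π p.1.down) (tι F F' p.1.down p.2.down) (F.tι₁ _ _))
  · haveI : Mono (kernel.lift (F'.π p.2.down) (tι F F' p.1.down p.2.down) (F.tι₂ _ _)) :=
      mono_of_mono_fac (kernel.lift_ι _ _ _)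
    exact support_subset_of_mono (kernel.lift (F'.π p.2.down) (tι F F' p.1.down p.2.down) (F.tι₂ _ _))

theorem cls_eq_double : F.cls =
    KZero.clSub P (∐ fun p : ULift.{u} ℕ × ULift.{u} ℕ => cokernel (e F F' p.1.down p.2.down)) := by
  have h := cl_tele hP (fun i : ULift.{u} ℕ => R F F' i.down) (fun i j => e F F' i.down j)
    (fun i j => F.mono_e i.down j) (fun i j => F.mem_R hP i.down j) F.locFin_R
  rw [← h]
  refine (cl_sigma_reindex hP (G := fun i : ULift.{u} ℕ => R F F' i.down 0) (G' := F.gr) (Equiv.refl _) (fun i => ?_)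
    (LocFin.comp (C := fun p : ULift.{u} ℕ × ULift.{u} ℕ => CohB1.support (R F F' p.1.down p.2.down)) F.locFin_R
      (fun i : ULift.{u} ℕ => ((i, ⟨0⟩) : ULift.{u} ℕ × ULift.{u} ℕ))
      fun p q h => (congrArg (fun z : ULift.{u} ℕ × ULift.{u} ℕ => z.1) h :))
    (fun i => F.mem_R hP i.down 0)).symm
  haveI := F.isIso_rι_zero (F' := F') i.down
  exact (asIso (rι F F' i.down 0)).symm

/-- The class does not depend on the filtration. -/
theorem cls_eq (F F' : Filt P A) : F.cls = F'.cls := by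
  rw [F.cls_eq_double hP (F' := F'), F'.cls_eq_double hP (F' := F)]
  have hmem : ∀ p : ULift.{u} ℕ × ULift.{u} ℕ, P (cokernel (e F F' p.1.down p.2.down)) := fun p =>
    hP.epi (cokernel.π (e F F' p.1.down p.2.down))
      (QCohLib.isCoh_kernel_cokernel _ (hP.coh (F.mem_R hP _ _)) (hP.coh (F.mem_R hP _ _))).2 (F.mem_R hP _ _)
  refine cl_sigma_reindex hP (G := fun p : ULift.{u} ℕ × ULift.{u} ℕ => cokernel (e F F' p.1.down p.2.down))
    (G' := fun p : ULift.{u} ℕ × ULift.{u} ℕ => cokernel (e F' F p.1.down p.2.down))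
    (Equiv.prodComm _ _) (fun p => (γIso F F' p.1.down p.2.down).symm) ?_ hmem
  exact LocFin.mono F.locFin_R fun p => by
    haveI := F.mono_e (F' := F') p.1.down p.2.down
    exact support_coker_subset (e F F' p.1.down p.2.down)

end Filt

end Groth.Agent.K0Fam
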