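import Groth.Agent.K0Fam.Filt

/-! # Induced filtrations and additivity -/

set_option autoImplicit false
set_option backward.isDefEq.respectTransparency false
set_option linter.style.haveILetI false
set_option linter.unusedSectionVars false

universe u

open CategoryTheory CategoryTheory.Limits AlgebraicGeometry TopologicalSpace
open Groth.Agent.PullbackMod Groth.Agent.DevLib

noncomputable section

namespace Groth.Agent.K0Fam.Filt

variable {X : Scheme.{u}} [IsLocallyNoetherian X] {P : ObjectProperty X.Modules} (hP : Nice P)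
  {S : ShortComplex X.Modules} (hS : S.ShortExact) (F : Filt P S.X₂) (h₁ : Coh.IsCoh S.X₁) (h₃ : Coh.IsCoh S.X₃)

/-- The quotient filtration on the last term. -/
def pC (j : ℕ) : S.X₃ ⟶ cokernel (S.f ≫ F.π j) :=
  haveI := hS.epi_g
  hS.exact.desc (F.π j ≫ cokernel.π _) (by rw [← Category.assoc, cokernel.condition])

theorem g_pC (j : ℕ) : S.g ≫ pC hS F j = F.π j ≫ cokernel.π (S.f ≫ F.π j) :=
  haveI := hS.epi_g
  hS.exact.g_desc _ _

theorem epi_pC (j : ℕ) : Epi (pC hS F j) := by
  haveI := F.epi j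
  haveI : Epi (F.π j ≫ cokernel.π (S.f ≫ F.π j)) := epi_comp _ _
  exact epi_of_epi_fac (g_pC hS F j)

/-- The transition of the quotient filtration. -/
def sC (j : ℕ) : cokernel (S.f ≫ F.π (j + 1)) ⟶ cokernel (S.f ≫ F.π j) :=
  cokernel.desc _ (F.s j ≫ cokernel.π _) (by
    rw [Category.assoc, reassoc_of% (F.fac j), ← Category.assoc, cokernel.condition])

theorem π_sC (j : ℕ) : cokernel.π _ ≫ sC (S := S) F j = F.s j ≫ cokernel.π _ := cokernel.π_desc _ _ _

/-- The map of the graded pieces to those of the quotient. -/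
def gC (j : ℕ) : kernel (F.s j) ⟶ kernel (sC (S := S) F j) :=
  kernel.lift _ (kernel.ι _ ≫ cokernel.π _) (by rw [Category.assoc, π_sC, kernel.condition_assoc, zero_comp])

theorem gC_ι (j : ℕ) : gC (S := S) F j ≫ kernel.ι _ = kernel.ι (F.s j) ≫ cokernel.π _ := kernel.lift_ι _ _ _

theorem exact_coker {M N : X.Modules} (f : M ⟶ N) :
    (ShortComplex.mk f (cokernel.π f) (cokernel.condition f)).Exact :=
  ShortComplex.exact_of_g_is_cokernel _ (cokernelIsCokernel f)

include hS in
theorem epi_kerπ (j : ℕ) :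
    Epi (kernel.map (F.π j) (pC hS F j) S.g (cokernel.π _) (g_pC hS F j).symm) := by
  rw [epi_iff_surjective_up_to_refinements]
  intro T y
  haveI := hS.epi_g
  obtain ⟨T₁, p, hp, b, hb⟩ := surjective_up_to_refinements_of_epi S.g (y ≫ kernel.ι (pC hS F j))
  have h0 : (b ≫ F.π j) ≫ cokernel.π (S.f ≫ F.π j) = 0 := by
    rw [Category.assoc, ← g_pC hS, ← reassoc_of% hb, kernel.condition, comp_zero, comp_zero]
  obtain ⟨T₂, q, hq, a, ha⟩ := (exact_coker (S.f ≫ F.π j)).exact_up_to_refinements (b ≫ F.π j) h0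
  refine ⟨T₂, q ≫ p, epi_comp _ _, kernel.lift _ (q ≫ b - a ≫ S.f) ?_, ?_⟩
  · simp only [Preadditive.sub_comp, Category.assoc]
    exact sub_eq_zero.2 ha
  · apply (cancel_mono (kernel.ι (pC hS F j))).1
    simp only [kernel.map, Category.assoc, kernel.lift_ι, kernel.lift_ι_assoc, Preadditive.sub_comp, S.zero,
      comp_zero, sub_zero]
    exact congrArg (fun z => q ≫ z) hb

theorem epi_gC (j : ℕ) : Epi (gC (S := S) F j) := by
  rw [epi_iff_surjective_up_to_refinements]
  intro T y
  obtain ⟨T₁, p, hp, b, hb⟩ := surjective_up_to_refinements_of_epi (cokernel.π (S.f ≫ F.π (j + 1)))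
    (y ≫ kernel.ι (sC (S := S) F j))
  have h0 : (b ≫ F.s j) ≫ cokernel.π (S.f ≫ F.π j) = 0 := by
    rw [Category.assoc, ← π_sC, ← reassoc_of% hb, kernel.condition, comp_zero, comp_zero]
  obtain ⟨T₂, q, hq, a, ha⟩ := (exact_coker (S.f ≫ F.π j)).exact_up_to_refinements (b ≫ F.s j) h0
  refine ⟨T₂, q ≫ p, epi_comp _ _, kernel.lift _ (q ≫ b - a ≫ S.f ≫ F.π (j + 1)) ?_, ?_⟩
  · simp only [Preadditive.sub_comp, Category.assoc, F.fac]
    exact sub_eq_zero.2 ha
  · apply (cancel_mono (kernel.ι (sC (S := S) F j))).1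
    simp only [gC, Category.assoc, kernel.lift_ι, kernel.lift_ι_assoc, Preadditive.sub_comp, cokernel.condition,
      comp_zero, sub_zero]
    exact congrArg (fun z => q ≫ z) hb

/-- The induced filtration on the last term. -/
def indC : Filt P S.X₃ where
  E j := cokernel (S.f ≫ F.π j)
  π j := pC hS F j
  epi j := epi_pC hS F j
  coh j := (QCohLib.isCoh_kernel_cokernel _ h₁ (F.coh j)).2
  s j := sC F j
  fac j := by
    haveI := hS.epi_g
    rw [← cancel_epi S.g, reassoc_of% (g_pC hS F (j + 1)), π_sC, reassoc_of% (F.fac j), g_pC]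
  zero := IsZero.of_epi (cokernel.π _) F.zero
  cohA := h₃
  fin := LocFin.mono F.fin fun j =>
    haveI := epi_kerπ hS F j.down
    support_subset_of_epi (kernel.map (F.π j.down) (pC hS F j.down) S.g (cokernel.π _) (g_pC hS F j.down).symm)
  mem j := by
    haveI := epi_gC (S := S) F j
    exact hP.epi (gC F j)
      (QCohLib.isCoh_kernel_cokernel _ (QCohLib.isCoh_kernel_cokernel _ h₁ (F.coh (j + 1))).2
        (QCohLib.isCoh_kernel_cokernel _ h₁ (F.coh j)).2).1 (F.mem j)

/-- The transition of the subfiltration. -/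
def sA (j : ℕ) : Abelian.image (S.f ≫ F.π (j + 1)) ⟶ Abelian.image (S.f ≫ F.π j) :=
  kernel.lift _ (Abelian.image.ι _ ≫ F.s j) ((cancel_epi (Abelian.factorThruImage (S.f ≫ F.π (j + 1)))).1 (by
    rw [Category.assoc, reassoc_of% (Abelian.image.fac (S.f ≫ F.π (j + 1))), reassoc_of% (F.fac j), ← Category.assoc S.f,
      cokernel.condition, comp_zero]))

theorem sA_ι (j : ℕ) : sA (S := S) F j ≫ Abelian.image.ι _ = Abelian.image.ι _ ≫ F.s j := kernel.lift_ι _ _ _

/-- The map of the graded pieces of the subfiltration. -/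
def fA (j : ℕ) : kernel (sA (S := S) F j) ⟶ kernel (F.s j) :=
  kernel.lift _ (kernel.ι _ ≫ Abelian.image.ι _) (by rw [Category.assoc, ← sA_ι, kernel.condition_assoc, zero_comp])

theorem fA_ι (j : ℕ) : fA (S := S) F j ≫ kernel.ι _ = kernel.ι (sA F j) ≫ Abelian.image.ι _ := kernel.lift_ι _ _ _

theorem mono_fA (j : ℕ) : Mono (fA (S := S) F j) := by
  haveI : Mono (kernel.ι (sA (S := S) F j) ≫ Abelian.image.ι _) := mono_comp _ _
  exact mono_of_mono_fac (fA_ι F j)

include hS in
/-- The induced filtration on the first term. -/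
def indA : Filt P S.X₁ where
  E j := Abelian.image (S.f ≫ F.π j)
  π j := Abelian.factorThruImage _
  epi j := inferInstance
  coh j := (QCohLib.isCoh_kernel_cokernel _ (F.coh j) (QCohLib.isCoh_kernel_cokernel _ h₁ (F.coh j)).2).1
  s j := sA F j
  fac j := by
    rw [← cancel_mono (Abelian.image.ι (S.f ≫ F.π j)), Category.assoc, sA_ι, reassoc_of% (Abelian.image.fac (S.f ≫ F.π (j + 1))),
      Abelian.image.fac, F.fac]
  zero := IsZero.of_mono (Abelian.image.ι _) F.zero
  cohA := h₁
  fin := LocFin.mono F.fin fun j => by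
    haveI := hS.mono_f
    let t : kernel (Abelian.factorThruImage (S.f ≫ F.π j.down)) ⟶ kernel (F.π j.down) :=
      kernel.lift _ (kernel.ι _ ≫ S.f) (by
        refine Eq.trans ?_ ((congrArg (fun z => z ≫ Abelian.image.ι (S.f ≫ F.π j.down))
          (kernel.condition (Abelian.factorThruImage (S.f ≫ F.π j.down)))).trans zero_comp)
        rw [Category.assoc, Category.assoc, Abelian.image.fac])
    haveI : Mono (kernel.ι (Abelian.factorThruImage (S.f ≫ F.π j.down)) ≫ S.f) := mono_comp _ _
    haveI : Mono t := mono_of_mono_fac (kernel.lift_ι _ _ _)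
    exact support_subset_of_mono t
  mem j := by
    haveI := mono_fA (S := S) F j
    exact hP.mono (fA F j)
      (QCohLib.isCoh_kernel_cokernel _
        (QCohLib.isCoh_kernel_cokernel _ (F.coh (j + 1)) (QCohLib.isCoh_kernel_cokernel _ h₁ (F.coh (j + 1))).2).1
        (QCohLib.isCoh_kernel_cokernel _ (F.coh j) (QCohLib.isCoh_kernel_cokernel _ h₁ (F.coh j)).2).1).1 (F.mem j)

theorem fA_gC (j : ℕ) : fA (S := S) F j ≫ gC F j = 0 := by
  rw [← cancel_mono (kernel.ι (sC (S := S) F j)), Category.assoc, gC_ι, reassoc_of% (fA_ι (S := S) F j),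
    kernel.condition, comp_zero, zero_comp]

theorem shortExact_gr (j : ℕ) : (ShortComplex.mk (fA (S := S) F j) (gC F j) (fA_gC F j)).ShortExact := by
  haveI := mono_fA (S := S) F j
  have hz : ∀ {T : X.Modules} (x : T ⟶ kernel (F.s j)), x ≫ gC (S := S) F j = 0 →
      (x ≫ kernel.ι _) ≫ cokernel.π (S.f ≫ F.π (j + 1)) = 0 := fun x hx => by
    rw [Category.assoc, ← gC_ι, reassoc_of% hx, zero_comp]
  let l : ∀ {T : X.Modules} (x : T ⟶ kernel (F.s j)), x ≫ gC (S := S) F j = 0 →
      (T ⟶ kernel (sA (S := S) F j)) := fun x hx =>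
    kernel.lift _ (kernel.lift _ (x ≫ kernel.ι _) (hz x hx)) (by
      rw [← cancel_mono (Abelian.image.ι (S.f ≫ F.π j)), Category.assoc, sA_ι, kernel.lift_ι_assoc, Category.assoc,
        kernel.condition, comp_zero, zero_comp])
  refine
    { exact := ShortComplex.exact_of_f_is_kernel _ (KernelFork.IsLimit.ofι _ _ l (fun x hx => ?_) fun x hx m hm => ?_)
      mono_f := inferInstance
      epi_g := epi_gC F j }
  · show l x hx ≫ fA F j = x
    rw [← cancel_mono (kernel.ι (F.s j)), Category.assoc, fA_ι, kernel.lift_ι_assoc, kernel.lift_ι]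
  · rw [← cancel_mono (fA (S := S) F j), hm]
    show x = l x hx ≫ fA F j
    rw [← cancel_mono (kernel.ι (F.s j)), Category.assoc, fA_ι, kernel.lift_ι_assoc, kernel.lift_ι]

/-- Additivity of the class. -/
theorem cls_add : F.cls = (indA hP hS F h₁).cls + (indC hP hS F h₁ h₃).cls :=
  cl_sigma_add hP (A := (indA hP hS F h₁).gr) (B := F.gr) (C := (indC hP hS F h₁ h₃).gr)
    (fun j => fA F j.down) (fun j => gC F j.down) (fun j => fA_gC F j.down) (fun j => shortExact_gr F j.down)
    (fun j => (indA hP hS F h₁).mem j.down) (fun j => F.mem j.down) (fun j => (indC hP hS F h₁ h₃).mem j.down)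
    (locFin_gr _) (locFin_gr _) (locFin_gr _)

end Groth.Agent.K0Fam.Filt
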