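import Groth.Agent.K0Fam.Quot
import Groth.Agent.DevLib.Apps
import Groth.Agent.AssLib.Noetherian

/-! # The part of a coherent module at a point of finite length -/

set_option autoImplicit false
set_option backward.isDefEq.respectTransparency false
set_option linter.style.haveILetI false
set_option linter.unusedSectionVars false

universe u

open CategoryTheory CategoryTheory.Limits AlgebraicGeometry TopologicalSpace Opposite
open Groth.Agent.PullbackMod Groth.Agent.DevLib

noncomputable section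

namespace Groth.Agent.K0Fam

/-- A module of finite length absorbs everything. -/
theorem exists_pow_smul_eq_zero {R : Type u} [CommRing R] [IsLocalRing R] {M : Type u} [AddCommGroup M]
    [Module R M] (h : IsFiniteLength R M) {a : R} (ha : a ∈ IsLocalRing.maximalIdeal R) (z : M) :
    ∃ n : ℕ, a ^ n • z = 0 := by
  obtain ⟨hN, hA⟩ := isFiniteLength_iff_isNoetherian_isArtinian.1 h
  let N : ℕ → Submodule R M := fun n => Submodule.span R {a ^ n • z}
  have hanti : ∀ n m, n ≤ m → N m ≤ N n := fun n m hnm => (Submodule.span_singleton_le_iff_mem _ _).2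
    (Submodule.mem_span_singleton.2 ⟨a ^ (m - n), by rw [← mul_smul, ← pow_add, Nat.sub_add_cancel hnm]⟩)
  obtain ⟨n, hn⟩ := IsArtinian.monotone_stabilizes (R := R) (M := M)
    ⟨fun n => OrderDual.toDual (N n), fun n m hnm => hanti n m hnm⟩
  have h1 : a ^ n • z ∈ N (n + 1) := by
    rw [show N (n + 1) = N n from (hn (n + 1) (Nat.le_succ n)).symm]
    exact Submodule.mem_span_singleton_self _
  obtain ⟨r, hr⟩ := Submodule.mem_span_singleton.1 h1
  refine ⟨n, ?_⟩
  have hu : IsUnit (1 - r * a) := IsLocalRing.isUnit_one_sub_self_of_mem_nonunits _ (by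
    exact fun hu => ha (isUnit_of_mul_isUnit_right hu))
  refine hu.smul_eq_zero.1 ?_
  rw [sub_smul, one_smul, sub_eq_zero, mul_smul, ← mul_smul a, ← pow_succ']
  exact hr.symm

variable {X : Scheme.{u}} [IsLocallyNoetherian X] {δ : X → ℤ} {k : ℤ} {F : X.Modules}

theorem absorbs_of_finiteLength {ξ : X} (h : IsFiniteLength (X.presheaf.stalk ξ) (F.presheaf.stalk ξ))
    (S : Submodule (X.presheaf.stalk ξ) (F.presheaf.stalk ξ)) : Absorbs S := fun a ha z => by
  obtain ⟨n, hn⟩ := exists_pow_smul_eq_zero h ha z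
  exact ⟨n, by rw [hn]; exact zero_mem _⟩

/-- The quotient of a module seen at one point. -/
def part (ξ : X) (F : X.Modules) : X.Modules :=
  cokernel (subAtι (⊥ : Submodule (X.presheaf.stalk ξ) (F.presheaf.stalk ξ)))

/-- The map to the part at a point. -/
def toPart (ξ : X) (F : X.Modules) : F ⟶ part ξ F := cokernel.π _

instance (ξ : X) (F : X.Modules) : Epi (toPart ξ F) := inferInstanceAs (Epi (cokernel.π _))

theorem isCoh_part (hF : Coh.IsCoh F) {ξ : X} (h : IsFiniteLength (X.presheaf.stalk ξ) (F.presheaf.stalk ξ)) :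
    Coh.IsCoh (part ξ F) :=
  (QCohLib.isCoh_kernel_cokernel _ (isCoh_subAt hF (absorbs_of_finiteLength h _)) hF).2

theorem supp_part {ξ y : X} (hy : y ∈ CohB1.support (part ξ F)) : ξ ⤳ y := by
  by_contra hc
  exact hy (subsingleton_coker _ (surjective_stalk_subAtι _ hc))

theorem supp_part_subset (ξ : X) : CohB1.support (part ξ F) ⊆ CohB1.support F :=
  support_coker_subset _

theorem bijective_toPart (ξ : X) : Function.Bijective (stalkLin (toPart ξ F) ξ) := by
  refine ⟨(injective_iff_map_eq_zero _).2 fun z hz => ?_, coker_surjective _ ξ⟩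
  obtain ⟨w, rfl⟩ := (coker_exact _ ξ z).1 hz
  exact (Submodule.mem_bot _).1 ((range_stalk_subAtι (⊥ : Submodule (X.presheaf.stalk ξ) (F.presheaf.stalk ξ))).le ⟨w, rfl⟩)

/-- The points of dimension `k` in the support. -/
abbrev Pts (δ : X → ℤ) (k : ℤ) (F : X.Modules) : Type u :=
  {ξ : X // δ ξ = k ∧ Nontrivial (F.presheaf.stalk ξ)}

variable (hδ : Cyc.IsDimFun X δ) (hF : Cyc.CohLe δ k F)
include hδ hF

theorem finiteLength_pts (ξ : Pts δ k F) : IsFiniteLength (X.presheaf.stalk ξ.1) (F.presheaf.stalk ξ.1) :=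
  (AssLib.isFiniteLength_iff_minimal hF.1).2 fun y hy hyx => by
    by_contra hne
    have h1 := (hδ y ξ.1 hyx hne).1
    have h2 := hF.2 y (AssLib.nontrivial_of_isAssPoint hy)
    rw [ξ.2.1] at h1
    omega

theorem locFin_pts : LocFin fun ξ : Pts δ k F => closure {ξ.1} := fun x => by
  haveI := hF.1.1
  obtain ⟨W, hW, hx, -⟩ := exists_isAffineOpen_mem_and_subset (x := x) (U := (⊤ : X.Opens)) trivial
  refine ⟨W, hx, ((AssLib.finite_ass_affine hF.1 hW).preimage (f := Subtype.val) Subtype.val_injective.injOn).subset ?_⟩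
  rintro ξ ⟨z, hz, hzW⟩
  refine ⟨(specializes_iff_mem_closure.2 hz).mem_open W.2 hzW, AssLib.isAssPoint_of_minimal ξ.2.2 fun y hy hyx => ?_⟩
  by_contra hne
  have h1 := (hδ y ξ.1 hyx hne).1
  have h2 := hF.2 y hy
  rw [ξ.2.1] at h1
  omega

theorem cohLe_part (ξ : Pts δ k F) : Cyc.CohLe δ k (part ξ.1 F) :=
  ⟨isCoh_part hF.1 (finiteLength_pts hδ hF ξ), fun x hx => hF.2 x
    (not_subsingleton_iff_nontrivial.1 (supp_part_subset ξ.1 (not_subsingleton_iff_nontrivial.2 hx)))⟩

theorem locFin_part : LocFinSupp fun ξ : Pts δ k F => part ξ.1 F :=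
  (locFin_pts hδ hF).mono fun ξ _ hy => specializes_iff_mem_closure.1 (supp_part hy)

omit hδ hF in
theorem eq_zero_of_proj {I : Type u} (G : I → X.Modules) (V : X.Opens) (t t' : Γ(∏ᶜ G, V))
    (h : ∀ i, (Pi.π G i).app V t = (Pi.π G i).app V t') : t = t' := by
  let E : X.Modules ⥤ Ab.{u} := Scheme.Modules.toPresheaf X ⋙ (evaluation (Opens X)ᵒᵖ Ab.{u}).obj (op V)
  haveI : PreservesLimitsOfShape (Discrete I) (Scheme.Modules.toPresheaf X) := inferInstance
  haveI : HasLimitsOfShape (Discrete I) Ab.{u} := inferInstance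
  haveI : PreservesLimitsOfShape (Discrete I) ((evaluation (Opens X)ᵒᵖ Ab.{u}).obj (op V)) :=
    evaluation_preservesLimitsOfShape _
  haveI : PreservesLimitsOfShape (Discrete I) E := comp_preservesLimitsOfShape _ _
  exact Concrete.isLimit_ext _ (isLimitOfPreserves E (productIsProduct G)) _ _ (fun ⟨i⟩ => h i)

omit hδ hF in
open Classical in
theorem isIso_sigmaToPi {I : Type u} {G : I → X.Modules} (h : LocFinSupp G) :
    IsIso (Pi.lift fun i => proj G i : (∐ G) ⟶ ∏ᶜ G) := by
  let σ : (∐ G) ⟶ ∏ᶜ G := Pi.lift fun i => proj G i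
  refine (isIso_iff_stalk σ).2 fun x => ⟨fun a b hab => ?_, fun w => ?_⟩
  · refine (stalkEquiv G _ fun i hi => h.subsingleton x hi).injective (funext fun i => ?_)
    show stalkLin (proj G i.1) x a = stalkLin (proj G i.1) x b
    rw [show proj G i.1 = σ ≫ Pi.π G i.1 from (Pi.lift_π _ _).symm, stalkLin_comp, LinearMap.comp_apply,
      LinearMap.comp_apply, hab]
  · obtain ⟨V, hxV, t, rfl⟩ := TopCat.Presheaf.exists_germ_eq (∏ᶜ G).presheaf w
    obtain ⟨W, hxW, hW⟩ := h x
    let V' := V ⊓ W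
    let t' : Γ(∏ᶜ G, V') := (∏ᶜ G).presheaf.map (homOfLE (inf_le_left : V' ≤ V)).op t
    have hx' : x ∈ V' := ⟨hxV, hxW⟩
    let z : Γ(∐ G, V') := ∑ i ∈ hW.toFinset, (Sigma.ι G i).app V' ((Pi.π G i).app V' t')
    have hz : σ.app V' z = t' := eq_zero_of_proj G V' _ _ fun j => by
      rw [map_sum, map_sum]
      have hterm : ∀ i, (Pi.π G j).app V' (σ.app V' ((Sigma.ι G i).app V' ((Pi.π G i).app V' t'))) =
          (Sigma.ι G i ≫ proj G j).app V' ((Pi.π G i).app V' t') := fun i => by
        rw [show proj G j = σ ≫ Pi.π G j from (Pi.lift_π _ _).symm]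
        rfl
      simp only [hterm]
      by_cases hj : j ∈ hW.toFinset
      · rw [Finset.sum_eq_single j (fun i _ hij => by rw [ι_proj_ne G hij]; rfl) (fun hn => absurd hj hn),
          ι_proj_self]
        rfl
      · rw [Finset.sum_eq_zero fun i hi => by rw [ι_proj_ne G (fun e : i = j => hj (e ▸ hi))]; rfl]
        exact (eq_zero_of_forall_germ ((Pi.π G j).app V' t') fun y (hy : y ∈ V') =>
          germ_eq_zero_of_notMem (fun hys => hj (hW.mem_toFinset.2 ⟨y, hys, hy.2⟩)) hy _).symm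
    refine ⟨(∐ G).presheaf.germ V' x hx' z, ?_⟩
    rw [stalkLin_germ, hz]
    exact TopCat.Presheaf.germ_res_apply _ _ _ _ _

/-- A coherent module is the sum of its parts up to low dimension. -/
theorem q_eq_sum_parts : q δ k (k - 1) F = q δ k (k - 1) (∐ fun ξ : Pts δ k F => part ξ.1 F) := by
  classical
  let G := fun ξ : Pts δ k F => part ξ.1 F
  have hl : LocFinSupp G := locFin_part hδ hF
  haveI := isIso_sigmaToPi hl
  let σ : (∐ G) ⟶ ∏ᶜ G := Pi.lift fun i => proj G i
  let ψ : F ⟶ ∐ G := Pi.lift (fun ξ : Pts δ k F => toPart ξ.1 F) ≫ inv σ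
  have hψ : ∀ ξ : Pts δ k F, ψ ≫ proj G ξ = toPart ξ.1 F := fun ξ => by
    rw [show proj G ξ = σ ≫ Pi.π G ξ from (Pi.lift_π _ _).symm, Category.assoc, IsIso.inv_hom_id_assoc, Pi.lift_π]
  refine q_of_bijective ψ hF (cohLe_sigma hl (cohLe_part hδ hF)) fun x hx => ?_
  by_cases hn : Nontrivial (F.presheaf.stalk x)
  swap
  · haveI := not_nontrivial_iff_subsingleton.1 hn
    haveI : Subsingleton ((∐ G).presheaf.stalk x) := subsingleton_of_notMem fun hc => by
      obtain ⟨i, hi⟩ := Set.mem_iUnion.1 (support_sigma_subset hl hc)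
      exact supp_part_subset i.1 hi this
    exact ⟨fun a b _ => Subsingleton.elim a b, fun b => ⟨0, Subsingleton.elim _ _⟩⟩
  have hk : δ x = k := le_antisymm (hF.2 x hn) (by omega)
  let ξ₀ : Pts δ k F := ⟨x, hk, hn⟩
  have hs : ∀ i, i ∉ ({ξ₀} : Finset (Pts δ k F)) → Subsingleton ((G i).presheaf.stalk x) := fun i hi =>
    subsingleton_of_notMem fun hc => hi (Finset.mem_singleton.2 (Subtype.ext (by
      by_contra hne
      have h1 := (hδ i.1 x (supp_part hc) hne).1
      rw [i.2.1] at h1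
      omega)))
  let e := stalkEquiv G {ξ₀} hs
  have he : ∀ z, e (stalkLin ψ x z) ⟨ξ₀, Finset.mem_singleton_self _⟩ = stalkLin (toPart x F) x z := fun z => by
    show stalkLin (proj G ξ₀) x (stalkLin ψ x z) = _
    rw [← LinearMap.comp_apply, ← stalkLin_comp, hψ]
  constructor
  · intro a b hab
    refine (bijective_toPart x).1 ?_
    rw [← he, ← he, hab]
  · intro w
    obtain ⟨z, hz⟩ := (bijective_toPart x).2 (e w ⟨ξ₀, Finset.mem_singleton_self _⟩)
    refine ⟨z, e.injective (funext fun i => ?_)⟩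
    obtain ⟨i, hi⟩ := i
    obtain rfl := Finset.mem_singleton.1 hi
    rw [he]; exact hz

end Groth.Agent.K0Fam
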