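import Groth.Agent.K0Fam.Psi

/-! # Cycles in the quotient Grothendieck group and periodic complexes -/

set_option autoImplicit false
set_option backward.isDefEq.respectTransparency false
set_option linter.style.haveILetI false
set_option linter.unusedSectionVars false

universe u

open CategoryTheory CategoryTheory.Limits AlgebraicGeometry TopologicalSpace
open Groth.Agent.PullbackMod Groth.Agent.DevLib

noncomputable section

namespace Groth.Agent.K0Fam

variable {X : Scheme.{u}} [IsLocallyNoetherian X] {δ : X → ℤ} {k : ℤ}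

/-- A cycle whose class in the quotient group is trivial is rationally equivalent to zero. -/
theorem ratEquivZero_of_q_eq (hδ : Cyc.IsDimFun X δ) (α : AlgebraicCycle X ℤ) (hα : α ∈ Cyc.Zk X δ k)
    (h : q δ (k + 1) (k - 1) (Cyc.cycleSheafPos ⇑α) = q δ (k + 1) (k - 1) (Cyc.cycleSheafNeg ⇑α)) :
    Cyc.RatEquivZero δ k α := by
  let Φ : KZero.K0sub (Cyc.CohLe δ (k + 1)) →+ (X → ℤ) ⧸ RF hδ k := (psi hδ).comp (backS hδ)
  have hΦ : ∀ {F : X.Modules}, Cyc.CohLe δ k F →
      Φ (KZero.clSub (Cyc.CohLe δ (k + 1)) F) = QuotientAddGroup.mk (Cyc.sheafFun δ k F) := fun hF => psi_backS hδ hF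
  have hlow : AddSubgroup.closure {c : KZero.K0sub (Cyc.CohLe δ (k + 1)) |
      ∃ F : X.Modules, Cyc.CohLe δ (k - 1) F ∧ c = KZero.clSub (Cyc.CohLe δ (k + 1)) F} ≤ Φ.ker := by
    rw [AddSubgroup.closure_le]
    rintro _ ⟨F, hF, rfl⟩
    rw [SetLike.mem_coe, AddMonoidHom.mem_ker, hΦ (cohLe_mono (by omega) hF), show Cyc.sheafFun δ k F = 0 from ?_]
    · rfl
    funext x
    unfold Cyc.sheafFun
    split_ifs with hx
    · haveI : Subsingleton (F.presheaf.stalk x) :=
        not_nontrivial_iff_subsingleton.1 fun hn => absurd (hF.2 x hn) (by omega)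
      simp [Module.length_eq_zero]
    · rfl
  have hp : ∀ x, 0 < α x → α x ≠ 0 := fun x hx => hx.ne'
  have hn : ∀ x, 0 < (-⇑α) x → α x ≠ 0 := fun x hx e => by
    rw [Pi.neg_apply, e, neg_zero] at hx
    exact lt_irrefl _ hx
  have h1 := hlow ((QuotientAddGroup.eq).1 h)
  have hP := cohLe_cycle hδ hα hp
  have hN : Cyc.CohLe δ k (Cyc.cycleSheafNeg ⇑α) := cohLe_cycle hδ hα hn
  rw [AddMonoidHom.mem_ker, map_add, map_neg, hΦ hP, hΦ hN, ← QuotientAddGroup.mk_neg, ← QuotientAddGroup.mk_add,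
    QuotientAddGroup.eq_zero_iff] at h1
  refine ratEquivZero_of_mem hδ ?_
  have e : ⇑α = -(-Cyc.sheafFun δ k (Cyc.cycleSheafPos ⇑α) + Cyc.sheafFun δ k (Cyc.cycleSheafNeg ⇑α)) := funext fun x => by
    rw [Pi.neg_apply, Pi.add_apply, Pi.neg_apply, show Cyc.cycleSheafNeg ⇑α = Cyc.cycleSheafPos (-⇑α) from rfl,
      sheafFun_cycle hδ hα hp x, sheafFun_cycle hδ hα hn x, Pi.neg_apply]
    by_cases hx : δ x = k
    · rw [if_pos hx, if_pos hx]
      omega
    · rw [if_neg hx, if_neg hx, hα x hx]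
      rfl
  rw [e]
  exact neg_mem h1

theorem q_kernel_cokernel {a b : ℤ} {F G : X.Modules} (f : F ⟶ G) (hF : Cyc.CohLe δ a F) (hG : Cyc.CohLe δ a G) :
    q δ a b G + q δ a b (kernel f) = q δ a b F + q δ a b (cokernel f) := by
  let S₁ : ShortComplex X.Modules := ShortComplex.mk (kernel.ι f) (Abelian.factorThruImage f)
    ((cancel_mono (Abelian.image.ι f)).1 (by simp))
  have hS₁ : S₁.ShortExact :=
    { exact := ShortComplex.exact_of_f_is_kernel _ (KernelFork.IsLimit.ofι _ _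
        (fun x hx => kernel.lift f x (by rw [← Abelian.image.fac f, reassoc_of% hx, zero_comp]))
        (fun x hx => kernel.lift_ι _ _ _)
        (fun x hx m hm => (cancel_mono (kernel.ι f)).1 (by simpa using hm)))
      mono_f := inferInstanceAs (Mono (kernel.ι f))
      epi_g := inferInstanceAs (Epi (Abelian.factorThruImage f)) }
  have hk := QCohLib.isCoh_kernel_cokernel f hF.1 hG.1
  have hI := isCoh_image f hF.1 hG.1
  let S₂ : ShortComplex X.Modules := ShortComplex.mk (Abelian.image.ι f) (cokernel.π f) (kernel.condition _)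
  have hS₂ : S₂.ShortExact :=
    { exact := ShortComplex.exact_of_f_is_kernel _ (kernelIsKernel _)
      mono_f := inferInstanceAs (Mono (kernel.ι _))
      epi_g := inferInstanceAs (Epi (cokernel.π f)) }
  obtain ⟨h1, h2⟩ := cohLe_of_ses hS₁ hF hk.1 hI
  obtain ⟨h3, h4⟩ := cohLe_of_ses hS₂ hG hI hk.2
  rw [show q δ a b F = q δ a b (kernel f) + q δ a b (Abelian.image f) from q_add hS₁ h1 hF h2,
    show q δ a b G = q δ a b (Abelian.image f) + q δ a b (cokernel f) from q_add hS₂ h3 hG h4]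
  abel

theorem cohLe_kernel {a : ℤ} {F G : X.Modules} (f : F ⟶ G) (hF : Cyc.CohLe δ a F) (hG : Coh.IsCoh G) :
    Cyc.CohLe δ a (kernel f) :=
  ⟨(QCohLib.isCoh_kernel_cokernel f hF.1 hG).1, fun x hx => hF.2 x
    (not_subsingleton_iff_nontrivial.1 (support_subset_of_mono (kernel.ι f) (not_subsingleton_iff_nontrivial.2 hx)))⟩

theorem isCoh_homology (S : ShortComplex X.Modules) (h₁ : Coh.IsCoh S.X₁) (h₂ : Coh.IsCoh S.X₂) (h₃ : Coh.IsCoh S.X₃) :
    Coh.IsCoh S.homology :=
  DCohLib.isCoh_iso (IsColimit.coconePointUniqueUpToIso (cokernelIsCokernel _) S.homologyIsCokernel)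
    (QCohLib.isCoh_kernel_cokernel S.toCycles h₁
      (DCohLib.isCoh_iso S.cyclesIsoKernel.symm (QCohLib.isCoh_kernel_cokernel S.g h₂ h₃).1)).2

theorem q_homology {a b : ℤ} (S : ShortComplex X.Modules) (h₁ : Cyc.CohLe δ a S.X₁) (h₂ : Cyc.CohLe δ a S.X₂)
    (h₃ : Coh.IsCoh S.X₃) : q δ a b S.homology = q δ a b (kernel S.g) + q δ a b (kernel S.f) - q δ a b S.X₁ := by
  have hZ : Cyc.CohLe δ a S.cycles := cohLe_iso S.cyclesIsoKernel.symm (cohLe_kernel S.g h₂ h₃)
  have h := q_kernel_cokernel (b := b) S.toCycles h₁ hZ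
  have hc : Cyc.CohLe δ a (cokernel S.toCycles) :=
    ⟨(QCohLib.isCoh_kernel_cokernel _ h₁.1 hZ.1).2, fun x hx => hZ.2 x
      (not_subsingleton_iff_nontrivial.1 (support_subset_of_epi (cokernel.π _) (not_subsingleton_iff_nontrivial.2 hx)))⟩
  have hk : Cyc.CohLe δ a (kernel S.toCycles) := cohLe_kernel _ h₁ hZ.1
  rw [q_iso S.cyclesIsoKernel hZ, show q δ a b (cokernel S.toCycles) = q δ a b S.homology from
      q_iso (IsColimit.coconePointUniqueUpToIso (cokernelIsCokernel _) S.homologyIsCokernel) hc,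
    q_iso ((kernelCompMono S.toCycles S.iCycles).symm ≪≫ kernelIsoOfEq S.toCycles_i) hk] at h
  rw [h]
  exact (add_sub_cancel_left _ _).symm

end Groth.Agent.K0Fam
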