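import Groth.Agent.K0Fam.Induced
import Groth.Agent.KZeroLib.DevissageNil
import Groth.Agent.CycLib.StalkMod
import Groth.Agent.GenFree.Modules
import Mathlib.RingTheory.Noetherian.Basic

/-! # Dévissage of modules supported on a closed subscheme -/

set_option autoImplicit false
set_option backward.isDefEq.respectTransparency false
set_option linter.style.haveILetI false
set_option linter.unusedSectionVars false

universe u

open CategoryTheory CategoryTheory.Limits AlgebraicGeometry TopologicalSpace
open Groth.Agent.PullbackMod Groth.Agent.DevLib Groth.Agent.DCohLib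

noncomputable section

namespace Groth.Agent.K0Fam

variable {X Z : Scheme.{u}} [IsLocallyNoetherian X] (i : Z ⟶ X) [IsClosedImmersion i]

/-- Coherent modules supported in the image. -/
def P0 : ObjectProperty X.Modules :=
  fun G => Coh.IsCoh G ∧ ∀ x : X, Nontrivial (G.presheaf.stalk x) → x ∈ Set.range ⇑i

/-- Coherent modules on the subscheme. -/
def P1 : ObjectProperty X.Modules := fun G => Coh.IsCoh G ∧ SuppOn i G

theorem p1_le {G : X.Modules} (h : P1 i G) : P0 i G :=
  ⟨h.1, fun x hx => by
    by_contra hc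
    haveI := h.2.subsingleton x hc
    exact not_subsingleton _ this⟩

theorem nice0 : Nice (P0 i) where
  coh h := h.1
  mono f _ hM hN := ⟨hM, fun x hx => hN.2 x (((mono_iff_stalk f).1 inferInstance x).nontrivial)⟩
  epi f _ hN hM := ⟨hN, fun x hx => hM.2 x (((epi_iff_stalk f).1 inferInstance x).nontrivial)⟩
  sigma {I G} h hG := ⟨isCoh_sigma h fun j => (hG j).1, fun x hx => by
    obtain ⟨j, hj⟩ := Set.mem_iUnion.1 (support_sigma_subset h (not_subsingleton_iff_nontrivial.2 hx))
    exact (hG j).2 x (not_subsingleton_iff_nontrivial.1 hj)⟩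

theorem nice1 : Nice (P1 i) where
  coh h := h.1
  mono f _ hM hN := ⟨hM, fun y hy => haveI := hN.2.subsingleton y hy; ((mono_iff_stalk f).1 inferInstance y).subsingleton,
    fun x a ha z => (mono_iff_stalk f).1 inferInstance (i x) (by rw [map_smul, hN.2.smul_eq_zero x a ha, map_zero])⟩
  epi f _ hN hM := ⟨hN, fun y hy => haveI := hM.2.subsingleton y hy; ((epi_iff_stalk f).1 inferInstance y).subsingleton,
    fun x a ha z => by
      obtain ⟨w, rfl⟩ := (epi_iff_stalk f).1 inferInstance (i x) z
      rw [← map_smul, hM.2.smul_eq_zero x a ha, map_zero]⟩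
  sigma {I G} h hG := ⟨isCoh_sigma h fun j => (hG j).1,
    fun y hy => (stalkEquiv G _ fun j hj => h.subsingleton y hj).toEquiv.subsingleton_congr.2
      ⟨fun a b => funext fun j => ((hG j.1).2.subsingleton y hy).elim _ _⟩,
    fun x a ha z => (stalkEquiv G _ fun j hj => h.subsingleton (i x) hj).injective (by
      rw [map_smul, map_zero]
      exact funext fun j => (hG j.1).2.smul_eq_zero x a ha _)⟩

section Nil

variable {i}

/-- The ideal annihilates a coherent module supported in the image after a power. -/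
theorem exists_pow_kill {M : X.Modules} (hM : P0 i M) (z : Z) :
    ∃ N : ℕ, ∀ a ∈ RingHom.ker (i.stalkMap z).hom ^ N, ∀ t : M.presheaf.stalk (i z), a • t = 0 := by
  haveI := CycLib.finite_stalk hM.1 (i z)
  haveI : IsNoetherianRing (X.presheaf.stalk (i z)) := inferInstance
  haveI := hM.1.1
  obtain ⟨U, hU, hxU, -⟩ := exists_isAffineOpen_mem_and_subset (x := i z) (U := (⊤ : X.Opens)) trivial
  have key : ∀ f ∈ RingHom.ker (i.app U).hom, ∀ t : M.presheaf.stalk (i z),
      ∃ n : ℕ, (X.presheaf.germ U (i z) hxU f) ^ n • t = 0 := fun f hf t => by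
    obtain ⟨V, hxV, s, rfl⟩ := TopCat.Presheaf.exists_germ_eq M.presheaf t
    obtain ⟨W, hW, hxW, hWV⟩ := exists_isAffineOpen_mem_and_subset (x := i z) (U := U ⊓ V) ⟨hxU, hxV⟩
    let f' : Γ(X, W) := X.presheaf.map (homOfLE (hWV.trans inf_le_left)).op f
    let s' : Γ(M, W) := M.presheaf.map (homOfLE (hWV.trans inf_le_right)).op s
    obtain ⟨n, hn⟩ := CohBase.exists_pow_zero M hW f' rfl s' (eq_zero_of_forall_germ _ fun y hy => by
      refine germ_eq_zero_of_notMem (fun hys => ?_) hy _
      obtain ⟨w, rfl⟩ := hM.2 y (not_subsingleton_iff_nontrivial.1 hys)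
      have hy' : i w ∈ X.basicOpen f := (X.basicOpen_res _ _).le hy |>.2
      have : w ∈ i ⁻¹ᵁ X.basicOpen f := hy'
      rw [Scheme.preimage_basicOpen, show i.app U f = 0 from hf, Scheme.basicOpen_zero] at this
      exact this)
    refine ⟨n, ?_⟩
    have h1 := congrArg (M.presheaf.germ W (i z) hxW) hn
    rw [GenFree.germ_sc, map_pow, map_zero] at h1
    rw [← M.presheaf.germ_res_apply (homOfLE (hWV.trans inf_le_right)) (i z) hxW s,
      ← X.presheaf.germ_res_apply (homOfLE (hWV.trans inf_le_left)) (i z) hxW f]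
    exact h1
  have hle : RingHom.ker (i.stalkMap z).hom ≤
      (Module.annihilator (X.presheaf.stalk (i z)) (M.presheaf.stalk (i z))).radical := by
    rw [RegIdealLib.ker_stalkMap i hU (IsZariskiLocalAtTarget.restrict ‹IsClosedImmersion i› _) z hxU,
      Ideal.map_le_iff_le_comap]
    intro f hf
    obtain ⟨s, hs⟩ := (Module.Finite.fg_top (R := X.presheaf.stalk (i z)) (M := M.presheaf.stalk (i z)))
    choose n hn using key f hf
    refine ⟨s.sup n, Module.mem_annihilator.2 fun t => ?_⟩
    have ht : t ∈ Submodule.span (X.presheaf.stalk (i z)) (s : Set (M.presheaf.stalk (i z))) := by rw [hs]; trivial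
    refine Submodule.span_induction (fun m hm => ?_) (smul_zero _) (fun a b _ _ ha hb => by rw [smul_add, ha, hb, add_zero])
      (fun c a _ ha => by rw [smul_comm, ha, smul_zero]) ht
    have hle' : n m ≤ s.sup n := Finset.le_sup hm
    rw [← Nat.sub_add_cancel hle', pow_add, mul_smul, hn m, smul_zero]
  obtain ⟨N, hN⟩ := Ideal.exists_pow_le_of_le_radical_of_fg hle (IsNoetherian.noetherian _)
  exact ⟨N, fun a ha t => Module.mem_annihilator.1 (hN ha) t⟩

end Nil

variable {M : X.Modules} (hM : P0 i M)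

/-- The unit. -/
abbrev η (K : X.Modules) : K ⟶ (Scheme.Modules.pushforward i).obj ((Scheme.Modules.pullback i).obj K) :=
  (Scheme.Modules.pullbackPushforwardAdjunction i).unit.app K

theorem isCoh_target {K : X.Modules} (hK : Coh.IsCoh K) :
    Coh.IsCoh ((Scheme.Modules.pushforward i).obj ((Scheme.Modules.pullback i).obj K)) :=
  haveI : IsLocallyNoetherian Z := LocallyOfFiniteType.isLocallyNoetherian i
  DevLib.isCoh_pushforward_closed i (PullbackMod.isCoh_pullback i K hK)

/-- The stages of the canonical filtration. -/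
def stage (M : X.Modules) : ℕ → Σ K : X.Modules, (K ⟶ M)
  | 0 => ⟨M, 𝟙 M⟩
  | j + 1 => ⟨kernel (η i (stage M j).1), kernel.ι _ ≫ (stage M j).2⟩

/-- The stage. -/
abbrev K (M : X.Modules) (j : ℕ) : X.Modules := (stage i M j).1

/-- Its inclusion. -/
abbrev kι (M : X.Modules) (j : ℕ) : K i M j ⟶ M := (stage i M j).2

theorem kι_succ (M : X.Modules) (j : ℕ) : kι i M (j + 1) = kernel.ι (η i (K i M j)) ≫ kι i M j := rfl

theorem mono_kι : ∀ j, Mono (kι i M j)
  | 0 => inferInstanceAs (Mono (𝟙 M))
  | j + 1 => haveI := mono_kι j; mono_comp (kernel.ι (η i (K i M j))) (kι i M j)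

include hM in
theorem coh_K : ∀ j, Coh.IsCoh (K i M j)
  | 0 => hM.1
  | j + 1 => (QCohLib.isCoh_kernel_cokernel _ (coh_K j) (isCoh_target i (coh_K j))).1

theorem stalk_K (z : Z) : ∀ j (t : (K i M j).presheaf.stalk (i z)), stalkLin (kι i M j) (i z) t ∈
    RingHom.ker (i.stalkMap z).hom ^ j • (⊤ : Submodule (X.presheaf.stalk (i z)) (M.presheaf.stalk (i z)))
  | 0, t => by rw [pow_zero, Ideal.one_eq_top, Submodule.top_smul]; trivial
  | j + 1, t => by
    rw [kι_succ, stalkLin_comp, LinearMap.comp_apply]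
    have h0 : stalkLin (η i (K i M j)) (i z) (stalkLin (kernel.ι (η i (K i M j))) (i z) t) = 0 := by
      rw [← LinearMap.comp_apply, ← stalkLin_comp, kernel.condition, stalkLin_zero]; rfl
    have h1 := KZeroLib.Devissage.mem_smul_of_pullStalk_eq_zero i z (stalkLin (kernel.ι (η i (K i M j))) (i z) t) (by
      rw [← unit_stalk_pushStalk, show stalkLin ((Scheme.Modules.pullbackPushforwardAdjunction i).unit.app (K i M j))
        (i z) _ = 0 from h0, map_zero])
    refine Submodule.smul_induction_on h1 (fun b hb y _ => ?_) fun p q hp hq => by rw [map_add]; exact add_mem hp hq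
    rw [map_smul, pow_succ', Submodule.mul_smul]
    exact Submodule.smul_mem_smul hb (stalk_K z j y)

theorem support_K_succ (j : ℕ) : CohB1.support (K i M (j + 1)) ⊆ CohB1.support (K i M j) :=
  support_subset_of_mono (kernel.ι (η i (K i M j)))

theorem antitone_support : Antitone fun j => CohB1.support (K i M j) :=
  antitone_nat_of_succ_le fun j => support_K_succ i j

include hM in
theorem locFin_K : LocFinSupp fun j : ULift.{u} ℕ => K i M j.down := fun x => by
  by_cases hx : x ∈ Set.range ⇑i
  · obtain ⟨z, rfl⟩ := hx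
    obtain ⟨N, hN⟩ := exists_pow_kill hM z
    have h0 : i z ∉ CohB1.support (K i M N) := fun hc => hc (subsingleton_of_forall_eq 0 fun t => by
      haveI := mono_kι i (M := M) N
      apply (mono_iff_stalk (kι i M N)).1 inferInstance (i z)
      rw [map_zero]
      refine Submodule.smul_induction_on (stalk_K i z N t) (fun a ha y _ => hN a ha y) fun p q hp hq => ?_
      rw [hp, hq, add_zero])
    refine ⟨⟨(CohB1.support (K i M N))ᶜ, (DevLib.isClosed_support (coh_K i hM N)).isOpen_compl⟩, h0,
      ((Set.finite_Iio N).preimage ULift.down_injective.injOn).subset fun j hj => ?_⟩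
    obtain ⟨y, hy, hyW⟩ := hj
    show j.down < N
    by_contra hc
    exact hyW (antitone_support i (not_lt.1 hc) hy)
  · refine ⟨⟨(Set.range ⇑i)ᶜ, i.isClosedEmbedding.isClosed_range.isOpen_compl⟩, hx,
      Set.finite_empty.subset fun j hj => ?_⟩
    obtain ⟨y, hy, hyW⟩ := hj
    exact hyW (hM.2 y (not_subsingleton_iff_nontrivial.1 (antitone_support i (Nat.zero_le j.down) hy)))

theorem canFac (M : X.Modules) (j : ℕ) : kι i M (j + 1) ≫ cokernel.π (kι i M j) = 0 := by
  rw [kι_succ, Category.assoc, cokernel.condition, comp_zero]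

/-- The transition of the canonical filtration. -/
def canS (M : X.Modules) (j : ℕ) : cokernel (kι i M (j + 1)) ⟶ cokernel (kι i M j) :=
  cokernel.desc _ (cokernel.π _) (canFac i M j)

theorem π_canS (M : X.Modules) (j : ℕ) : cokernel.π _ ≫ canS i M j = cokernel.π (kι i M j) := cokernel.π_desc _ _ _

/-- The map onto the graded piece. -/
def toCan (M : X.Modules) (j : ℕ) : K i M j ⟶ kernel (canS i M j) :=
  kernel.lift _ (kι i M j ≫ cokernel.π (kι i M (j + 1))) (by rw [Category.assoc, π_canS, cokernel.condition])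

theorem epi_toCan (M : X.Modules) (j : ℕ) : Epi (toCan i M j) := by
  rw [epi_iff_surjective_up_to_refinements]
  intro T y
  haveI := mono_kι i (M := M) j
  obtain ⟨T', p, hp, b, hb⟩ := surjective_up_to_refinements_of_epi (cokernel.π (kι i M (j + 1))) (y ≫ kernel.ι (canS i M j))
  have h0 : b ≫ cokernel.π (kι i M j) = 0 := by
    rw [← π_canS, ← reassoc_of% hb, kernel.condition, comp_zero, comp_zero]
  refine ⟨T', p, hp, Abelian.monoLift (kι i M j) b h0, ?_⟩
  apply (cancel_mono (kernel.ι (canS i M j))).1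
  rw [Category.assoc, Category.assoc, toCan, kernel.lift_ι, ← Category.assoc (Abelian.monoLift _ _ _),
    Abelian.monoLift_comp]
  exact hb

include hM in
theorem mem_can (j : ℕ) : P1 i (kernel (canS i M j)) := by
  have hKj := coh_K i hM j
  have hck := fun j => (QCohLib.isCoh_kernel_cokernel (kι i M j) (coh_K i hM j) hM.1).2
  have hg : Coh.IsCoh (kernel (canS i M j)) := (QCohLib.isCoh_kernel_cokernel _ (hck (j + 1)) (hck j)).1
  have hI : P1 i (Abelian.image (η i (K i M j))) :=
    (nice1 i).mono (Abelian.image.ι _)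
      (QCohLib.isCoh_kernel_cokernel _ (isCoh_target i hKj) (QCohLib.isCoh_kernel_cokernel _ hKj (isCoh_target i hKj)).2).1
      ⟨isCoh_target i hKj, suppOn_pushforward i _⟩
  have hk : kernel.ι (Abelian.factorThruImage (η i (K i M j))) ≫ toCan i M j = 0 := by
    have h : kernel.ι (Abelian.factorThruImage (η i (K i M j))) ≫ η i (K i M j) = 0 := by
      conv_lhs => arg 2; rw [← Abelian.image.fac (η i (K i M j))]
      rw [kernel.condition_assoc, zero_comp]
    rw [← cancel_mono (kernel.ι (canS i M j)), zero_comp, Category.assoc, toCan, kernel.lift_ι]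
    rw [← kernel.lift_ι (η i (K i M j)) _ h, Category.assoc, ← Category.assoc (kernel.ι (η i (K i M j))), ← kι_succ,
      cokernel.condition, comp_zero]
  haveI := epi_toCan i M j
  haveI : Epi (Abelian.epiDesc (Abelian.factorThruImage (η i (K i M j))) (toCan i M j) hk) :=
    epi_of_epi_fac (Abelian.comp_epiDesc _ _ _)
  exact (nice1 i).epi (Abelian.epiDesc (Abelian.factorThruImage (η i (K i M j))) (toCan i M j) hk) hg hI

/-- The canonical filtration. -/
def canon : Filt (P1 i) M where
  E j := cokernel (kι i M j)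
  π j := cokernel.π _
  epi j := inferInstance
  coh j := (QCohLib.isCoh_kernel_cokernel _ (coh_K i hM j) hM.1).2
  s j := canS i M j
  fac j := π_canS i M j
  zero := by
    haveI : Epi (kι i M 0) := inferInstanceAs (Epi (𝟙 M))
    exact isZero_cokernel_of_epi _
  cohA := hM.1
  fin := LocFin.mono (locFin_K i hM) fun j => by
    haveI := mono_kι i (M := M) j.down
    haveI : Mono (Abelian.monoLift (kι i M j.down) (kernel.ι (cokernel.π (kι i M j.down))) (kernel.condition _)) :=
      mono_of_mono_fac (Abelian.monoLift_comp _ _ _)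
    exact support_subset_of_mono
      (Abelian.monoLift (kι i M j.down) (kernel.ι (cokernel.π (kι i M j.down))) (kernel.condition _))
  mem j := mem_can i hM j

theorem cls_ses {S : ShortComplex X.Modules} (hS : S.ShortExact) (h₁ : P0 i S.X₁) (h₂ : P0 i S.X₂) (h₃ : P0 i S.X₃) :
    (canon i h₂).cls = (canon i h₁).cls + (canon i h₃).cls := by
  rw [Filt.cls_add (nice1 i) hS (canon i h₂) h₁.1 h₃.1, Filt.cls_eq (nice1 i) _ (canon i h₁),
    Filt.cls_eq (nice1 i) (Filt.indC (nice1 i) hS (canon i h₂) h₁.1 h₃.1) (canon i h₃)]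

/-- The inclusion. -/
def incl : KZero.K0sub (P1 i) →+ KZero.K0sub (P0 i) :=
  SGA6.mapSub (𝟭 X.Modules) (P1 i) (P0 i) fun _ h => p1_le i h

theorem incl_cl {G : X.Modules} (h : P1 i G) : incl i (KZero.clSub (P1 i) G) = KZero.clSub (P0 i) G := by
  rw [K0ResLib.clSub_of h, K0ResLib.clSub_of (p1_le i h)]
  rfl

/-- The inverse. -/
def back : KZero.K0sub (P0 i) →+ KZero.K0sub (P1 i) :=
  QuotientAddGroup.lift _ (FreeAbelianGroup.lift fun M : Subtype (P0 i) => (canon i M.2).cls) (by
    rw [KZero.relSub, AddSubgroup.closure_le]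
    rintro _ ⟨S, h₁, h₂, h₃, hS, rfl⟩
    simp only [SetLike.mem_coe, AddMonoidHom.mem_ker, map_sub, FreeAbelianGroup.lift_apply_of]
    rw [sub_sub, sub_eq_zero]
    exact cls_ses i hS h₁ h₂ h₃)

theorem back_cl {M : X.Modules} (hM : P0 i M) : back i (KZero.clSub (P0 i) M) = (canon i hM).cls := by
  rw [K0ResLib.clSub_of hM]
  exact FreeAbelianGroup.lift_apply_of (fun M : Subtype (P0 i) => (canon i M.2).cls) ⟨M, hM⟩

/-- The quotients of the trivial filtration. -/
def trivE (M : X.Modules) : ℕ → X.Modules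
  | 0 => cokernel (𝟙 M)
  | _ + 1 => M

/-- The trivial filtration. -/
def triv (hM : P1 i M) : Filt (P1 i) M where
  E := trivE M
  π
    | 0 => cokernel.π _
    | _ + 1 => 𝟙 M
  epi
    | 0 => inferInstanceAs (Epi (cokernel.π (𝟙 M)))
    | _ + 1 => inferInstanceAs (Epi (𝟙 M))
  coh
    | 0 => (QCohLib.isCoh_kernel_cokernel _ hM.1 hM.1).2
    | _ + 1 => hM.1
  s
    | 0 => cokernel.π _
    | _ + 1 => 𝟙 M
  fac
    | 0 => Category.id_comp _
    | _ + 1 => Category.comp_id _
  zero := isZero_cokernel_of_epi _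
  cohA := hM.1
  fin x := ⟨⊤, trivial, ((Set.finite_le_nat 0).preimage ULift.down_injective.injOn).subset fun ⟨j⟩ hj => by
    show j ≤ 0
    rcases j with _ | j
    · exact le_rfl
    · obtain ⟨y, hy, -⟩ := hj
      exact (hy (subsingleton_of_forall_eq 0 fun t => (mono_iff_stalk (kernel.ι (𝟙 M))).1 inferInstance y (by
        rw [map_zero, show kernel.ι (𝟙 M) = 0 from (isZero_kernel_of_mono (𝟙 M)).eq_of_src _ _, stalkLin_zero]
        rfl))).elim⟩
  mem
    | 0 => (nice1 i).mono (kernel.ι (cokernel.π (𝟙 M)))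
        (QCohLib.isCoh_kernel_cokernel _ hM.1 (QCohLib.isCoh_kernel_cokernel _ hM.1 hM.1).2).1 hM
    | _ + 1 => (nice1 i).mono (kernel.ι (𝟙 M)) (QCohLib.isCoh_kernel_cokernel _ hM.1 hM.1).1 hM

theorem cls_triv (hM : P1 i M) : (triv i hM).cls = KZero.clSub (P1 i) M := by
  let F := triv i hM
  have hz : ∀ j, IsZero (F.gr ⟨j + 1⟩) := fun j => isZero_kernel_of_mono (𝟙 M)
  have h0 : (cokernel.π (𝟙 M)) = 0 := (isZero_cokernel_of_epi (𝟙 M)).eq_of_tgt _ _
  refine cl_iso (nice1 i)
    (e := { hom := Sigma.desc fun j : ULift.{u} ℕ => kernel.ι (F.s j.down)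
            inv := kernel.lift (F.s 0) (𝟙 M) ((isZero_cokernel_of_epi (𝟙 M)).eq_of_tgt _ _) ≫ Sigma.ι F.gr ⟨0⟩
            hom_inv_id := Sigma.hom_ext _ _ fun ⟨j⟩ => by
              rcases j with _ | j
              · refine (Sigma.ι_desc_assoc _ _ _).trans ?_
                rw [Category.comp_id]
                exact (Category.assoc _ _ _).symm.trans ((congrArg (fun q => q ≫ Sigma.ι F.gr ⟨0⟩)
                  ((cancel_mono (kernel.ι (F.s 0))).1 (show (kernel.ι (F.s 0) ≫ kernel.lift (F.s 0) (𝟙 M) _) ≫ _ =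
                    𝟙 _ ≫ kernel.ι (F.s 0) by rw [Category.assoc, kernel.lift_ι, Category.id_comp]; exact Category.comp_id _))).trans
                  (Category.id_comp _))
              · exact (hz j).eq_of_src _ _
            inv_hom_id := by
              refine (Category.assoc _ _ _).trans ?_
              rw [Sigma.ι_desc]
              exact kernel.lift_ι _ _ _ }) ((nice1 i).sigma F.locFin_gr fun j => F.mem j.down)

theorem back_incl : (back i).comp (incl i) = AddMonoidHom.id _ :=
  QuotientAddGroup.addMonoidHom_ext _ (FreeAbelianGroup.lift_ext _ _ fun G => by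
    show back i (incl i (QuotientAddGroup.mk (FreeAbelianGroup.of G))) = QuotientAddGroup.mk (FreeAbelianGroup.of G)
    rw [← K0ResLib.clSub_of G.2, incl_cl i G.2, back_cl i (p1_le i G.2), Filt.cls_eq (nice1 i) _ (triv i G.2),
      cls_triv])

theorem incl_cls {M : X.Modules} (hM : P0 i M) (F : Filt (P1 i) M) :
    incl i F.cls = KZero.clSub (P0 i) M := by
  have h0 := nice0 i
  haveI : ∀ j, Epi (F.π j) := F.epi
  let R : PUnit.{u + 1} → ℕ → X.Modules := fun _ j => kernel (F.π j)
  let e : ∀ (p : PUnit.{u + 1}) (j : ℕ), R p (j + 1) ⟶ R p j := fun _ j =>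
    kernel.lift _ (kernel.ι _) (by rw [← F.fac j, kernel.condition_assoc, zero_comp])
  have he : ∀ p j, Mono (e p j) := fun p j => mono_of_mono_fac (kernel.lift_ι _ _ _)
  have hR : ∀ p j, P0 i (R p j) := fun p j => h0.mono (kernel.ι (F.π j)) (F.coh_kernel j) hM
  have l : LocFinSupp fun p : PUnit.{u + 1} × ULift.{u} ℕ => R p.1 p.2.down :=
    LocFin.comp (C := fun j : ULift.{u} ℕ => CohB1.support (kernel (F.π j.down))) F.fin
      (fun p : PUnit.{u + 1} × ULift.{u} ℕ => p.2) fun p q h => Prod.ext (Subsingleton.elim _ _) h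
  have h := cl_tele h0 R e he hR l
  haveI : IsIso (kernel.ι (F.π 0)) := by
    rw [show F.π 0 = 0 from F.zero.eq_of_tgt _ _]
    infer_instance
  have hl₀ : LocFinSupp fun p : PUnit.{u + 1} => R p 0 := fun x =>
    ⟨⊤, trivial, Set.toFinite _⟩
  have hA : KZero.clSub (P0 i) (∐ fun p : PUnit.{u + 1} => R p 0) = KZero.clSub (P0 i) M :=
    cl_iso h0 (coproductUniqueIso _ ≪≫ asIso (kernel.ι (F.π 0))) (h0.sigma hl₀ fun p => hR p 0)
  rw [Filt.cls, incl_cl i ((nice1 i).sigma F.locFin_gr fun j => F.mem j.down), ← hA, h]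
  refine (cl_sigma_reindex h0 (G := fun p : PUnit.{u + 1} × ULift.{u} ℕ => cokernel (e p.1 p.2.down))
    (Equiv.punitProd _) (fun p => ?_) ?_ fun p => ?_).symm
  · haveI : Epi (F.toGr p.2.down) := F.epi_toGr _
    have w : e p.1 p.2.down ≫ F.toGr p.2.down = 0 := by
      rw [← cancel_mono (kernel.ι (F.s p.2.down)), Category.assoc, zero_comp]
      simp [Filt.toGr, e, R]
    have hk : kernel.ι (F.toGr p.2.down) ≫ cokernel.π (e p.1 p.2.down) = 0 := by
      have hk' : (kernel.ι (F.toGr p.2.down) ≫ kernel.ι (F.π p.2.down)) ≫ F.π (p.2.down + 1) = 0 := by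
        refine Eq.trans ?_ ((congrArg (fun q => q ≫ kernel.ι (F.s p.2.down)) (kernel.condition (F.toGr p.2.down))).trans
          zero_comp)
        simp only [Category.assoc, Filt.toGr, kernel.lift_ι]
      have : kernel.ι (F.toGr p.2.down) = kernel.lift _ _ hk' ≫ e p.1 p.2.down :=
        (cancel_mono (kernel.ι (F.π p.2.down))).1 (by simp [e, R])
      rw [this, Category.assoc, cokernel.condition, comp_zero]
    exact
      { hom := Abelian.epiDesc (F.toGr p.2.down) (cokernel.π (e p.1 p.2.down)) hk
        inv := cokernel.desc _ (F.toGr p.2.down) w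
        hom_inv_id := by
          apply (cancel_epi (F.toGr p.2.down)).1
          rw [← Category.assoc, Abelian.comp_epiDesc, cokernel.π_desc]
          exact (Category.comp_id _).symm
        inv_hom_id := by
          apply (cancel_epi (cokernel.π (e p.1 p.2.down))).1
          rw [cokernel.π_desc_assoc, Abelian.comp_epiDesc, Category.comp_id] }
  · exact LocFin.mono l fun p => by
      haveI := he p.1 p.2.down
      exact support_coker_subset (e p.1 p.2.down)
  · exact h0.epi (cokernel.π (e p.1 p.2.down))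
      (QCohLib.isCoh_kernel_cokernel _ (h0.coh (hR p.1 _)) (h0.coh (hR p.1 _))).2 (hR p.1 _)

theorem incl_back : (incl i).comp (back i) = AddMonoidHom.id _ :=
  QuotientAddGroup.addMonoidHom_ext _ (FreeAbelianGroup.lift_ext _ _ fun G => by
    show incl i (back i (QuotientAddGroup.mk (FreeAbelianGroup.of G))) = QuotientAddGroup.mk (FreeAbelianGroup.of G)
    rw [← K0ResLib.clSub_of G.2, back_cl i G.2, incl_cls i G.2])

theorem bijective_incl : Function.Bijective (incl i) :=
  Function.bijective_iff_has_inverse.2 ⟨back i, DFunLike.congr_fun (back_incl i), DFunLike.congr_fun (incl_back i)⟩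

end Groth.Agent.K0Fam
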