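import Groth.Agent.K0Fam.Induced

/-! # The trivial filtration -/

set_option autoImplicit false
set_option backward.isDefEq.respectTransparency false
set_option linter.style.haveILetI false
set_option linter.unusedSectionVars false

universe u

open CategoryTheory CategoryTheory.Limits AlgebraicGeometry TopologicalSpace
open Groth.Agent.PullbackMod Groth.Agent.DevLib

noncomputable section

namespace Groth.Agent.K0Fam.Filt

variable {X : Scheme.{u}} [IsLocallyNoetherian X] {P : ObjectProperty X.Modules} (hP : Nice P) {M : X.Modules}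

/-- The quotients of the trivial filtration. -/
def trivSE (M : X.Modules) : ℕ → X.Modules
  | 0 => cokernel (𝟙 M)
  | _ + 1 => M

/-- The trivial filtration. -/
def trivS (hM : P M) : Filt P M where
  E := trivSE M
  π
    | 0 => cokernel.π _
    | _ + 1 => 𝟙 M
  epi
    | 0 => inferInstanceAs (Epi (cokernel.π (𝟙 M)))
    | _ + 1 => inferInstanceAs (Epi (𝟙 M))
  coh
    | 0 => (QCohLib.isCoh_kernel_cokernel _ (hP.coh hM) (hP.coh hM)).2
    | _ + 1 => (hP.coh hM)
  s
    | 0 => cokernel.π _
    | _ + 1 => 𝟙 M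
  fac
    | 0 => Category.id_comp _
    | _ + 1 => Category.comp_id _
  zero := isZero_cokernel_of_epi _
  cohA := (hP.coh hM)
  fin x := ⟨⊤, trivial, ((Set.finite_le_nat 0).preimage ULift.down_injective.injOn).subset fun ⟨j⟩ hj => by
    show j ≤ 0
    rcases j with _ | j
    · exact le_rfl
    · obtain ⟨y, hy, -⟩ := hj
      exact (hy (subsingleton_of_forall_eq 0 fun t => (mono_iff_stalk (kernel.ι (𝟙 M))).1 inferInstance y (by
        rw [map_zero, show kernel.ι (𝟙 M) = 0 from (isZero_kernel_of_mono (𝟙 M)).eq_of_src _ _, stalkLin_zero]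
        rfl))).elim⟩
  mem
    | 0 => hP.mono (kernel.ι (cokernel.π (𝟙 M)))
        (QCohLib.isCoh_kernel_cokernel _ (hP.coh hM) (QCohLib.isCoh_kernel_cokernel _ (hP.coh hM) (hP.coh hM)).2).1 hM
    | _ + 1 => hP.mono (kernel.ι (𝟙 M)) (QCohLib.isCoh_kernel_cokernel _ (hP.coh hM) (hP.coh hM)).1 hM

theorem cls_trivS (hM : P M) : (trivS hP hM).cls = KZero.clSub P M := by
  let F := trivS hP hM
  have hz : ∀ j, IsZero (F.gr ⟨j + 1⟩) := fun j => isZero_kernel_of_mono (𝟙 M)
  have h0 : (cokernel.π (𝟙 M)) = 0 := (isZero_cokernel_of_epi (𝟙 M)).eq_of_tgt _ _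
  refine cl_iso hP
    (e := { hom := Sigma.desc fun j : ULift.{u} ℕ => kernel.ι (F.s j.down)
            inv := kernel.lift (F.s 0) (𝟙 M) ((isZero_cokernel_of_epi (𝟙 M)).eq_of_tgt _ _) ≫ Sigma.ι F.gr ⟨0⟩
            hom_inv_id := Sigma.hom_ext _ _ fun ⟨j⟩ => by
              rcases j with _ | j
              · refine (Sigma.ι_desc_assoc _ _ _).trans ?_
                rw [Category.comp_id]
                exact (Category.assoc _ _ _).symm.trans ((congrArg (fun q => q ≫ Sigma.ι F.gr ⟨0⟩)
                  ((cancel_mono (kernel.ι (F.s 0))).1 (show (kernel.ι (F.s 0) ≫ kernel.lift (F.s 0) (𝟙 M) _) ≫ _ =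
                    𝟙 _ ≫ kernel.ι (F.s 0) by rw [Category.assoc, kernel.lift_ι, Category.id_comp]; exact Category.comp_id _))).trans
                  (Category.id_comp _))
              · exact (hz j).eq_of_src _ _
            inv_hom_id := by
              refine (Category.assoc _ _ _).trans ?_
              rw [Sigma.ι_desc]
              exact kernel.lift_ι _ _ _ }) (hP.sigma F.locFin_gr fun j => F.mem j.down)

end Groth.Agent.K0Fam.Filt
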