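import Groth.Agent.K0Fam.Chi
import Groth.Agent.K0Fam.Induced
import Groth.Agent.K0Fam.Thick
import Groth.Agent.K0Fam.Triv
import Groth.Agent.K0Fam.Pair
import Groth.Agent.CycLib.Div
import Groth.Agent.DVRCrit.Local

/-! # The residual class of a coherent module -/

set_option autoImplicit false
set_option backward.isDefEq.respectTransparency false
set_option linter.style.haveILetI false
set_option linter.unusedSectionVars false

universe u

open CategoryTheory CategoryTheory.Limits AlgebraicGeometry TopologicalSpace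
open Groth.Agent.PullbackMod Groth.Agent.DevLib

noncomputable section

namespace Groth.Agent.K0Fam

variable {X : Scheme.{u}} [IsLocallyNoetherian X] {δ : X → ℤ} {k : ℤ}

/-- The functions of principal cycles. -/
def RF (hδ : Cyc.IsDimFun X δ) (k : ℤ) : AddSubgroup (X → ℤ) where
  carrier := {a | ∃ γ : AlgebraicCycle X ℤ, Cyc.RatEquivZero δ k γ ∧ ⇑γ = a}
  zero_mem' := ⟨0, CycLib.ratEquivZero_zero, funext fun _ => rfl⟩
  add_mem' := by
    rintro _ _ ⟨γ, h, rfl⟩ ⟨γ', h', rfl⟩
    exact ⟨γ + γ', CycLib.ratEquivZero_add h h', funext fun _ => rfl⟩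
  neg_mem' := by
    rintro _ ⟨γ, h, rfl⟩
    exact ⟨-γ, CycLib.ratEquivZero_neg hδ h, funext fun _ => rfl⟩

theorem ratEquivZero_of_mem (hδ : Cyc.IsDimFun X δ) {α : AlgebraicCycle X ℤ} (h : ⇑α ∈ RF hδ k) :
    Cyc.RatEquivZero δ k α := by
  obtain ⟨γ, ⟨ι, ξ, f, h1, h2, h3, h4⟩, e⟩ := h
  exact ⟨ι, ξ, f, h1, h2, h3, fun x => (congrFun e x).symm.trans (h4 x)⟩

variable (hδ : Cyc.IsDimFun X δ)
include hδ

/-- The residual function. -/
def res (F : Subtype (SSP δ k)) (b : Frame F) : X → ℤ := fun x => if δ x = k then chi x b else 0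

theorem res_sub_mem (F : Subtype (SSP δ k)) (b b' : Frame F) : res F b - res F b' ∈ RF hδ k := by
  let det : ∀ η : Top δ k, X.residueField η.1 := fun η =>
    LinearMap.det ((b' η).equiv (b η) (Equiv.refl _)).toLinearMap
  have hdet : ∀ η, det η ≠ 0 := fun η => ((b' η).equiv (b η) (Equiv.refl _)).isUnit_det'.ne_zero
  let Φ : CycLib.Fam δ k :=
    { ι := Pts δ (k + 1) F.1
      ξ := fun η => η.1
      f := fun η => det ⟨η.1, η.2.1⟩
      hξ := fun η => η.2.1
      hf := fun η => hdet _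
      fin := fun x => by
        obtain ⟨W, hx, hW⟩ := locFin_pts hδ F.2.1 x
        exact ⟨W, W.2, hx, hW⟩ }
  refine ⟨Φ.cycle hδ, Φ.ratEquivZero hδ, funext fun x => ?_⟩
  show ∑ᶠ η : Pts δ (k + 1) F.1, Cyc.divFun δ η.1 (det ⟨η.1, η.2.1⟩) x = res F b x - res F b' x
  unfold res
  by_cases hx : δ x = k
  swap
  · rw [if_neg hx, if_neg hx, sub_zero, finsum_eq_zero_of_forall_eq_zero fun η => ?_]
    rw [Cyc.divFun, dif_neg]
    rintro ⟨-, h⟩
    rw [η.2.1] at h
    omega
  rw [if_pos hx, if_pos hx, chi_change hδ hx b b']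
  classical
  let S := (finite_support F (x := x) hδ).toFinset
  have hS : ∀ η ∈ S, Nontrivial (F.1.presheaf.stalk η.1.1) := fun η h =>
    (Set.Finite.mem_toFinset (finite_support F (x := x) hδ)).1 h
  let e : {η // η ∈ S} ↪ Pts δ (k + 1) F.1 := ⟨fun η => ⟨η.1.1.1, η.1.1.2, hS η.1 η.2⟩, fun a c h =>
    Subtype.ext (Subtype.ext (Subtype.ext (congrArg Subtype.val h :)))⟩
  rw [finsum_eq_sum_of_support_subset _ (s := S.attach.map e) fun η hη => ?_, Finset.sum_map,
    ← Finset.sum_attach S]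
  · refine Finset.sum_congr rfl fun η _ => ?_
    show Cyc.divFun δ η.1.1.1 (det ⟨η.1.1.1, η.1.1.2⟩) x = _
    rw [CycLib.divFun_of η.1.2 (by rw [hx, η.1.1.2])]
  · have hs := (CycLib.specializes_of_divFun_ne_zero hη).1
    rw [Finset.coe_map, Set.mem_image]
    exact ⟨⟨⟨⟨η.1, η.2.1⟩, hs⟩, (Set.Finite.mem_toFinset _).2 η.2.2⟩, Finset.mem_attach _ _, rfl⟩

theorem res_add_mem {F F' F'' : Subtype (SSP δ k)} (f : F'.1 ⟶ F.1) (g : F.1 ⟶ F''.1) (w : f ≫ g = 0)
    (hS : (ShortComplex.mk f g w).ShortExact) :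
    res F (frame F) - res F' (frame F') - res F'' (frame F'') ∈ RF hδ k := by
  obtain ⟨b, hb⟩ := exists_comb f g w hS (frame F') (frame F'')
  have hsum : res F b = res F' (frame F') + res F'' (frame F'') := funext fun x => by
    show res F b x = res F' (frame F') x + res F'' (frame F'') x
    unfold res
    by_cases hx : δ x = k
    · rw [if_pos hx, if_pos hx, if_pos hx]
      exact chi_add hδ f g w hS hx _ _ b hb
    · rw [if_neg hx, if_neg hx, if_neg hx, add_zero]
  rw [sub_sub, ← hsum]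
  exact res_sub_mem hδ F (frame F) b

/-- The residual class of a module of the small category. -/
def psi : KZero.K0sub (SSP δ k) →+ (X → ℤ) ⧸ RF hδ k :=
  QuotientAddGroup.lift _ (FreeAbelianGroup.lift fun F => QuotientAddGroup.mk (res F (frame F))) (by
    rw [KZero.relSub, AddSubgroup.closure_le]
    rintro _ ⟨S, h₁, h₂, h₃, hS, rfl⟩
    simp only [SetLike.mem_coe, AddMonoidHom.mem_ker, map_sub, FreeAbelianGroup.lift_apply_of]
    rw [← QuotientAddGroup.mk_sub, ← QuotientAddGroup.mk_sub, QuotientAddGroup.eq_zero_iff]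
    exact res_add_mem hδ (F := ⟨S.X₂, h₂⟩) (F' := ⟨S.X₁, h₁⟩) (F'' := ⟨S.X₃, h₃⟩) S.f S.g S.zero hS)

theorem psi_cl {F : X.Modules} (hF : SSP δ k F) :
    psi hδ (KZero.clSub (SSP δ k) F) = QuotientAddGroup.mk (res ⟨F, hF⟩ (frame _)) := by
  rw [K0ResLib.clSub_of hF]
  exact FreeAbelianGroup.lift_apply_of
    (fun F : Subtype (SSP δ k) => (QuotientAddGroup.mk (res F (frame F)) : (X → ℤ) ⧸ RF hδ k)) ⟨F, hF⟩

theorem ssp_of_cohLe {F : X.Modules} (hF : Cyc.CohLe δ k F) : SSP δ k F :=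
  ⟨cohLe_mono (by omega) hF, fun η hη a _ z => by
    haveI : Subsingleton (F.presheaf.stalk η) :=
      not_nontrivial_iff_subsingleton.1 fun h => absurd (hF.2 η h) (by omega)
    exact Subsingleton.elim _ _⟩

/-- On the modules of dimension at most `k` the residual is the cycle. -/
theorem res_eq {F : X.Modules} (hF : Cyc.CohLe δ k F) (b : Frame (⟨F, ssp_of_cohLe hδ hF⟩ : Subtype (SSP δ k))) :
    res ⟨F, ssp_of_cohLe hδ hF⟩ b = Cyc.sheafFun δ k F := funext fun x => by
  unfold res Cyc.sheafFun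
  by_cases hx : δ x = k
  swap
  · rw [if_neg hx, if_neg hx]
  rw [if_pos hx, if_pos hx, chi]
  haveI : ∀ η : Tx δ k x, Subsingleton (KV (⟨F, ssp_of_cohLe hδ hF⟩ : Subtype (SSP δ k)) η.1) := fun η =>
    not_nontrivial_iff_subsingleton.1 fun h => absurd (hF.2 η.1.1 h) (by rw [η.1.2]; omega)
  rw [show LinearMap.range (toVX (⟨F, ssp_of_cohLe hδ hF⟩ : Subtype (SSP δ k)) x) = latt x b from
      Subsingleton.elim _ _, dist_self, add_zero,
    show LinearMap.ker (toVX (⟨F, ssp_of_cohLe hδ hF⟩ : Subtype (SSP δ k)) x) = ⊤ from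
      eq_top_iff.2 fun z _ => Subsingleton.elim _ _]
  rw [Submodule.topEquiv.length_eq]

section Dev

variable {M : X.Modules} (hM : Cyc.CohLe δ (k + 1) M)

omit hδ in
/-- The reduced support. -/
def suppI : X.IdealSheafData :=
  Scheme.IdealSheafData.vanishingIdeal ⟨CohB1.support M, DevLib.isClosed_support hM.1⟩

omit hδ in
theorem range_suppI : Set.range (suppI hM).subschemeι = CohB1.support M := by
  rw [Scheme.IdealSheafData.range_subschemeι, suppI, Scheme.IdealSheafData.coe_support_vanishingIdeal]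
  rfl

omit hδ in
theorem p0_suppI : P0 (suppI hM).subschemeι M :=
  ⟨hM.1, fun x hx => (range_suppI hM).ge (not_subsingleton_iff_nontrivial.2 hx)⟩

theorem ssp_of_p1 {G : X.Modules} (hG : P1 (suppI hM).subschemeι G) : SSP δ k G := by
  let i := (suppI hM).subschemeι
  have hle : ∀ y, y ∈ CohB1.support G → y ∈ Set.range i := fun y hy => by
    by_contra hc
    exact hy (hG.2.subsingleton y hc)
  have hle' : ∀ y ∈ Set.range i, δ y ≤ k + 1 := fun y hy =>
    hM.2 y (not_subsingleton_iff_nontrivial.1 ((range_suppI hM).le hy))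
  refine ⟨⟨hG.1, fun y hy => hle' y (hle y (not_subsingleton_iff_nontrivial.2 hy))⟩, fun η hη a ha z => ?_⟩
  by_cases hr : η ∈ Set.range i
  swap
  · haveI := hG.2.subsingleton η hr
    exact Subsingleton.elim _ _
  obtain ⟨w, rfl⟩ := hr
  refine hG.2.smul_eq_zero w a ?_ z
  haveI : IsReduced (suppI hM).subscheme := DVRCrit.isReduced_vanishingIdeal _
  haveI : Subsingleton (PrimeSpectrum ((suppI hM).subscheme.presheaf.stalk w)) := ⟨fun p q => by
    have h : ∀ v, v ⤳ w → v = w := fun v hv => i.isClosedEmbedding.injective (by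
      by_contra hne
      have h1 := (hδ _ _ (hv.map i.continuous) hne).1
      have h2 := hle' (i v) ⟨v, rfl⟩
      omega)
    exact ((suppI hM).subscheme.fromSpecStalk w).isEmbedding.injective
      ((h _ (Scheme.range_fromSpecStalk.le ⟨p, rfl⟩)).trans (h _ (Scheme.range_fromSpecStalk.le ⟨q, rfl⟩)).symm)⟩
  letI := (Ring.KrullDimLE.isField_of_isReduced (R := (suppI hM).subscheme.presheaf.stalk w)).toField
  by_contra hne
  exact (IsLocalRing.mem_maximalIdeal a).1 ha
    ((isUnit_map_iff (i.stalkMap w).hom a).1 (isUnit_iff_ne_zero.2 hne))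

omit hδ in
/-- Changing the class of graded pieces. -/
def Filt.weaken {P Q : ObjectProperty X.Modules} (h : ∀ G, P G → Q G) {A : X.Modules} (F : Filt P A) : Filt Q A :=
  { F with mem := fun j => h _ (F.mem j) }

/-- The canonical filtration with graded pieces in the small category. -/
def canonS : Filt (SSP δ k) M :=
  Filt.weaken (fun _ h => ssp_of_p1 hδ hM h) (canon (suppI hM).subschemeι (p0_suppI hM))

end Dev

/-- Reduction to the small category. -/
def backS : KZero.K0sub (Cyc.CohLe δ (k + 1)) →+ KZero.K0sub (SSP δ k) :=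
  QuotientAddGroup.lift _ (FreeAbelianGroup.lift fun M : Subtype (Cyc.CohLe δ (k + 1)) => (canonS hδ M.2).cls) (by
    rw [KZero.relSub, AddSubgroup.closure_le]
    rintro _ ⟨S, h₁, h₂, h₃, hS, rfl⟩
    simp only [SetLike.mem_coe, AddMonoidHom.mem_ker, map_sub, FreeAbelianGroup.lift_apply_of]
    rw [sub_sub, sub_eq_zero, Filt.cls_add (nice_ssp δ k) hS (canonS hδ h₂) h₁.1 h₃.1,
      Filt.cls_eq (nice_ssp δ k) _ (canonS hδ h₁),
      Filt.cls_eq (nice_ssp δ k) (Filt.indC (nice_ssp δ k) hS (canonS hδ h₂) h₁.1 h₃.1) (canonS hδ h₃)])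

theorem psi_backS {F : X.Modules} (hF : Cyc.CohLe δ k F) :
    psi hδ (backS hδ (KZero.clSub (Cyc.CohLe δ (k + 1)) F)) = QuotientAddGroup.mk (Cyc.sheafFun δ k F) := by
  have hF' : Cyc.CohLe δ (k + 1) F := cohLe_mono (by omega) hF
  rw [K0ResLib.clSub_of hF', show backS hδ (QuotientAddGroup.mk (FreeAbelianGroup.of ⟨F, hF'⟩)) = _ from
    FreeAbelianGroup.lift_apply_of (fun M : Subtype (Cyc.CohLe δ (k + 1)) => (canonS hδ M.2).cls) ⟨F, hF'⟩,
    Filt.cls_eq (nice_ssp δ k) _ (Filt.trivS (nice_ssp δ k) (ssp_of_cohLe hδ hF)),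
    Filt.cls_trivS, psi_cl hδ (ssp_of_cohLe hδ hF), res_eq hδ hF]

end Groth.Agent.K0Fam
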