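import Groth.Agent.DevLib.Sub
import Groth.Agent.DevLib.Closed
import Groth.Agent.DCohLib.HDCoprod
import Groth.Agent.TildePerf.Noeth
import Groth.Agent.K0ResLib.Basic
import Groth.Agent.CMRegLib.Res
import Groth.Agent.ProjBundleLib.FTQuot

/-! # Direct sums of modules with locally finite supports -/

set_option autoImplicit false
set_option backward.isDefEq.respectTransparency false
set_option linter.style.haveILetI false
set_option linter.unusedSectionVars false

universe u

open CategoryTheory CategoryTheory.Limits AlgebraicGeometry TopologicalSpace Opposite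
open Groth.Agent.PullbackMod Groth.Agent.DevLib

noncomputable section

namespace Groth.Agent.K0Fam

variable {X : Scheme.{u}} {I : Type u}

/-- A locally finite family of sets. -/
def LocFin (C : I → Set X) : Prop :=
  ∀ x : X, ∃ W : X.Opens, x ∈ W ∧ {i | (C i ∩ (W : Set X)).Nonempty}.Finite

/-- The supports of the family form a locally finite family. -/
def LocFinSupp (G : I → X.Modules) : Prop := LocFin fun i => CohB1.support (G i)

theorem LocFin.mono {C C' : I → Set X} (h : LocFin C) (hle : ∀ i, C' i ⊆ C i) : LocFin C' := fun x => by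
  obtain ⟨W, hx, hW⟩ := h x
  exact ⟨W, hx, hW.subset fun i ⟨y, hy, hyW⟩ => ⟨y, hle i hy, hyW⟩⟩

theorem LocFin.finite_mem {C : I → Set X} (h : LocFin C) (x : X) : {i | x ∈ C i}.Finite := by
  obtain ⟨W, hx, hW⟩ := h x
  exact hW.subset fun i hi => ⟨x, hi, hx⟩

theorem LocFin.comp {J : Type u} {C : I → Set X} (h : LocFin C) (e : J → I) (he : Function.Injective e) :
    LocFin fun j => C (e j) := fun x => by
  obtain ⟨W, hx, hW⟩ := h x
  exact ⟨W, hx, (Set.Finite.preimage (f := e) he.injOn hW).subset fun j hj => hj⟩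

theorem LocFin.sigma {F : I → Type} {C : I → Set X} (h : LocFin C) (hF : ∀ i, Finite (F i)) :
    LocFin fun p : Σ i, F i => C p.1 := fun x => by
  obtain ⟨W, hx, hW⟩ := h x
  refine ⟨W, hx, (hW.biUnion fun i _ => (Set.finite_univ (α := F i)).image (Sigma.mk i)).subset ?_⟩
  rintro ⟨i, a⟩ hp
  exact Set.mem_biUnion (show i ∈ {i | (C i ∩ (W : Set X)).Nonempty} from hp) ⟨a, trivial, rfl⟩

variable (G : I → X.Modules)

open Classical in
/-- The projection of a direct sum to a summand. -/
def proj (j : I) : ∐ G ⟶ G j := Sigma.desc fun i => if h : i = j then eqToHom (by rw [h]) else 0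

theorem ι_proj_self (j : I) : Sigma.ι G j ≫ proj G j = 𝟙 _ := by simp [proj]

theorem ι_proj_ne {i j : I} (h : i ≠ j) : Sigma.ι G i ≫ proj G j = 0 := by simp [proj, h]

theorem proj_ι_apply_self (j : I) (x : X) (z : (G j).presheaf.stalk x) :
    stalkLin (proj G j) x (stalkLin (Sigma.ι G j) x z) = z := by
  rw [← LinearMap.comp_apply, ← stalkLin_comp, ι_proj_self, stalkLin_id]; rfl

theorem proj_ι_apply_ne {i j : I} (h : i ≠ j) (x : X) (z : (G i).presheaf.stalk x) :
    stalkLin (proj G j) x (stalkLin (Sigma.ι G i) x z) = 0 := by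
  rw [← LinearMap.comp_apply, ← stalkLin_comp, ι_proj_ne G h, stalkLin_zero]; rfl

/-- The stalk of a direct sum is generated by the stalks of the summands. -/
theorem iSup_range_ι (x : X) : (⨆ i, LinearMap.range (stalkLin (Sigma.ι G i) x)) = ⊤ := by
  let S := ⨆ i, LinearMap.range (stalkLin (Sigma.ι G i) x)
  have h1 : toSky S.mkQ = 0 := Sigma.hom_ext _ _ fun i => by
    rw [comp_zero]
    refine Scheme.Modules.hom_ext _ _ fun U => AddCommGrpCat.hom_ext (AddMonoidHom.ext fun m => ?_)
    funext hx
    show S.mkQ ((∐ G).presheaf.germ U x hx.down ((Sigma.ι G i).app U m)) = 0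
    rw [← stalkLin_germ]
    exact (Submodule.Quotient.mk_eq_zero _).mpr (Submodule.mem_iSup_of_mem i ⟨_, rfl⟩)
  refine eq_top_iff.mpr fun z _ => ?_
  obtain ⟨U, hx, m, rfl⟩ := TopCat.Presheaf.exists_germ_eq (∐ G).presheaf z
  rw [← Submodule.Quotient.mk_eq_zero]
  show S.mkQ ((∐ G).presheaf.germ U x hx m) = 0
  rw [← toSky_app S.mkQ U m ⟨hx⟩, h1]
  rfl

theorem stalk_ι_eq_zero {i : I} {x : X} (h : Subsingleton ((G i).presheaf.stalk x)) (z : (G i).presheaf.stalk x) :
    stalkLin (Sigma.ι G i) x z = 0 := by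
  rw [Subsingleton.elim z 0, map_zero]

/-- An element of the stalk of a direct sum with finitely many nonzero stalks. -/
theorem eq_sum_proj {x : X} (s : Finset I) (hs : ∀ i, i ∉ s → Subsingleton ((G i).presheaf.stalk x))
    (z : (∐ G).presheaf.stalk x) : z = ∑ i ∈ s, stalkLin (Sigma.ι G i) x (stalkLin (proj G i) x z) := by
  classical
  have hz : z ∈ ⨆ i, LinearMap.range (stalkLin (Sigma.ι G i) x) := by rw [iSup_range_ι]; trivial
  induction hz using Submodule.iSup_induction' with
  | mem i y hy =>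
    obtain ⟨w, rfl⟩ := hy
    by_cases hi : i ∈ s
    · rw [Finset.sum_eq_single i (fun j _ hj => by rw [proj_ι_apply_ne G (Ne.symm hj), map_zero])
        (fun h => absurd hi h), proj_ι_apply_self]
    · rw [stalk_ι_eq_zero G (hs i hi)]
      simp
  | zero => simp
  | add a b _ _ ha hb =>
    simp only [map_add, Finset.sum_add_distrib]
    rw [← ha, ← hb]

/-- The stalk of a direct sum with finitely many nonzero stalks. -/
def stalkEquiv {x : X} (s : Finset I) (hs : ∀ i, i ∉ s → Subsingleton ((G i).presheaf.stalk x)) :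
    (∐ G).presheaf.stalk x ≃ₗ[X.presheaf.stalk x] ((i : s) → (G i.1).presheaf.stalk x) where
  toFun z i := stalkLin (proj G i.1) x z
  map_add' a b := funext fun i => map_add _ a b
  map_smul' a b := funext fun i => map_smul _ a b
  invFun v := ∑ i : s, stalkLin (Sigma.ι G i.1) x (v i)
  left_inv z := by
    show ∑ i : s, stalkLin (Sigma.ι G i.1) x (stalkLin (proj G i.1) x z) = z
    rw [Finset.sum_coe_sort s fun i => stalkLin (Sigma.ι G i) x (stalkLin (proj G i) x z)]
    exact (eq_sum_proj G s hs z).symm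
  right_inv v := funext fun i => by
    classical
    show stalkLin (proj G i.1) x (∑ j : s, stalkLin (Sigma.ι G j.1) x (v j)) = v i
    rw [map_sum, Finset.sum_eq_single i (fun j _ hj => proj_ι_apply_ne G (fun e => hj (Subtype.ext e)) x _)
      (fun h => absurd (Finset.mem_univ i) h), proj_ι_apply_self]

variable {G}

theorem LocFinSupp.subsingleton (h : LocFinSupp G) (x : X) {i : I}
    (hi : i ∉ (h.finite_mem x).toFinset) : Subsingleton ((G i).presheaf.stalk x) :=
  subsingleton_of_notMem fun hc => hi ((h.finite_mem x).mem_toFinset.2 hc)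

theorem length_stalk_sigma (h : LocFinSupp G) (x : X) :
    Module.length (X.presheaf.stalk x) ((∐ G).presheaf.stalk x) =
      ∑ i ∈ (h.finite_mem x).toFinset, Module.length (X.presheaf.stalk x) ((G i).presheaf.stalk x) := by
  rw [(stalkEquiv G _ fun i hi => h.subsingleton x hi).length_eq, Module.length_pi_of_fintype,
    Finset.sum_coe_sort _ fun i => Module.length (X.presheaf.stalk x) ((G i).presheaf.stalk x)]

theorem support_sigma_subset (h : LocFinSupp G) : CohB1.support (∐ G) ⊆ ⋃ i, CohB1.support (G i) := by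
  intro x hx
  by_contra hc
  rw [Set.mem_iUnion, not_exists] at hc
  refine hx ?_
  haveI : ∀ i : ((∅ : Finset I) : Set I), Subsingleton ((G i.1).presheaf.stalk x) := fun i => (Finset.notMem_empty _ i.2).elim
  exact (stalkEquiv G ∅ fun i _ => subsingleton_of_notMem (hc i)).toEquiv.subsingleton

theorem isZero_restrict {M : X.Modules} (W : X.Opens) (h : ∀ y ∈ W, y ∉ CohB1.support M) :
    IsZero ((Scheme.Modules.restrictFunctor W.ι).obj M) := by
  refine (IsZero.iff_id_eq_zero _).2 (Scheme.Modules.hom_ext _ _ fun V => AddCommGrpCat.hom_ext (AddMonoidHom.ext fun m => ?_))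
  show m = 0
  refine TopCat.Presheaf.section_ext (⟨M.presheaf, M.isSheaf⟩ : TopCat.Sheaf Ab X) _ _ _ fun y hy => ?_
  refine (germ_eq_zero_of_notMem (h y ?_) hy _).trans (map_zero _).symm
  obtain ⟨v, -, rfl⟩ := hy
  exact v.2

/-- A locally finite direct sum of coherent modules is coherent. -/
theorem isCoh_sigma [IsLocallyNoetherian X] (h : LocFinSupp G) (hG : ∀ i, Coh.IsCoh (G i)) : Coh.IsCoh (∐ G) := by
  classical
  refine TildePerf.isCoh_of_local_epi (DCohLib.isQCoh_sigma_modules G fun i => (hG i).1) fun x => ?_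
  obtain ⟨W, hxW, hW⟩ := h x
  let R := Scheme.Modules.restrictFunctor W.ι
  haveI : PreservesColimitsOfSize.{u, u} R := (Scheme.Modules.restrictAdjunction W.ι).leftAdjoint_preservesColimits
  haveI : PreservesColimitsOfSize.{0, 0} R := (Scheme.Modules.restrictAdjunction W.ι).leftAdjoint_preservesColimits
  let s := hW.toFinset
  let e := s.equivFin
  have hcoh : ∀ i, Coh.IsCoh (R.obj (G i)) := fun i =>
    ProjBundleLib.isCoh_restrict_open (hG i).1 (hG i).2 W
  refine ⟨W, ∐ fun j => R.obj (G (e.symm j).1), Sigma.desc fun j => R.map (Sigma.ι G (e.symm j).1), hxW,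
    CMRegLib.isCoh_sigma_fin _ fun j => hcoh _, ⟨fun {Z} a b hab => ?_⟩⟩
  refine (isColimitOfPreserves R (coproductIsCoproduct G)).hom_ext fun ⟨i⟩ => ?_
  show R.map (Sigma.ι G i) ≫ a = R.map (Sigma.ι G i) ≫ b
  by_cases hi : i ∈ s
  · have := congrArg (fun q => Sigma.ι (fun j => R.obj (G (e.symm j).1)) (e ⟨i, hi⟩) ≫ q) hab
    simp only [colimit.ι_desc_assoc, Cofan.mk_pt, Cofan.mk_ι_app] at this
    have key : ∀ (j : s), j.1 = i → R.map (Sigma.ι G j.1) ≫ a = R.map (Sigma.ι G j.1) ≫ b →
        R.map (Sigma.ι G i) ≫ a = R.map (Sigma.ι G i) ≫ b := by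
      rintro j rfl h; exact h
    exact key _ (congrArg Subtype.val (e.symm_apply_apply ⟨i, hi⟩)) this
  · exact (isZero_restrict W fun y hy hys => hi (hW.mem_toFinset.2 ⟨y, hys, hy⟩)).eq_of_src _ _

/-- A componentwise map of direct sums at a stalk. -/
theorem bijective_map {G' : I → X.Modules} (φ : ∀ i, G i ⟶ G' i) (h : LocFinSupp G) (h' : LocFinSupp G') {x : X}
    (hb : ∀ i, Function.Bijective (stalkLin (φ i) x)) : Function.Bijective (stalkLin (Limits.Sigma.map φ) x) := by
  classical
  let s := (h.finite_mem x).toFinset ∪ (h'.finite_mem x).toFinset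
  let e := stalkEquiv G s fun i hi => h.subsingleton x fun hc => hi (Finset.mem_union_left _ hc)
  let e' := stalkEquiv G' s fun i hi => h'.subsingleton x fun hc => hi (Finset.mem_union_right _ hc)
  have hcomm : ∀ z, e' (stalkLin (Limits.Sigma.map φ) x z) = fun i => stalkLin (φ i.1) x (e z i) := fun z => funext fun i => by
    show stalkLin (proj G' i.1) x (stalkLin (Limits.Sigma.map φ) x z) = stalkLin (φ i.1) x (stalkLin (proj G i.1) x z)
    have hp : Limits.Sigma.map φ ≫ proj G' i.1 = proj G i.1 ≫ φ i.1 := Sigma.hom_ext _ _ fun j => by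
      rw [← Category.assoc, Sigma.ι_map, ← Category.assoc]
      by_cases hji : j = i.1
      · subst hji; rw [Category.assoc, ι_proj_self, ι_proj_self, Category.id_comp, Category.comp_id]
      · rw [Category.assoc, ι_proj_ne G' hji, ι_proj_ne G hji, comp_zero, zero_comp]
    rw [← LinearMap.comp_apply, ← stalkLin_comp, hp, stalkLin_comp]
    rfl
  constructor
  · intro a b hab
    refine e.injective (funext fun i => (hb i.1).1 ?_)
    have := congrArg e' hab
    rw [hcomm, hcomm] at this
    exact congrFun this i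
  · intro w
    choose v hv using fun i : s => (hb i.1).2 (e' w i)
    refine ⟨e.symm v, e'.injective ?_⟩
    rw [hcomm, LinearEquiv.apply_symm_apply]
    exact funext hv

/-- Direct sums of injective maps are injective. -/
theorem mono_map {G' : I → X.Modules} (φ : ∀ i, G i ⟶ G' i) (h : LocFinSupp G) [∀ i, Mono (φ i)] :
    Mono (Limits.Sigma.map φ) := by
  classical
  refine (mono_iff_stalk _).2 fun x => (injective_iff_map_eq_zero _).2 fun z hz => ?_
  let s := (h.finite_mem x).toFinset
  refine (stalkEquiv G s fun i hi => h.subsingleton x hi).injective (funext fun i => ?_)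
  rw [map_zero]
  show stalkLin (proj G i.1) x z = 0
  refine (mono_iff_stalk (φ i.1)).1 inferInstance x ?_
  have hp : Limits.Sigma.map φ ≫ proj G' i.1 = proj G i.1 ≫ φ i.1 := Sigma.hom_ext _ _ fun j => by
    rw [← Category.assoc, Sigma.ι_map, ← Category.assoc]
    by_cases hji : j = i.1
    · subst hji; rw [Category.assoc, ι_proj_self, ι_proj_self, Category.id_comp, Category.comp_id]
    · rw [Category.assoc, ι_proj_ne G' hji, ι_proj_ne G hji, comp_zero, zero_comp]
  rw [map_zero, ← LinearMap.comp_apply, ← stalkLin_comp, ← hp, stalkLin_comp]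
  show stalkLin (proj G' i.1) x (stalkLin (Limits.Sigma.map φ) x z) = 0
  rw [hz, map_zero]

/-- The direct sum of short exact sequences with locally finite supports. -/
theorem shortExact_sigma {A B C : I → X.Modules} (f : ∀ i, A i ⟶ B i) (g : ∀ i, B i ⟶ C i) (w : ∀ i, f i ≫ g i = 0)
    (hS : ∀ i, (ShortComplex.mk (f i) (g i) (w i)).ShortExact) (hA : LocFinSupp A) :
    (ShortComplex.mk (Limits.Sigma.map f) (Limits.Sigma.map g) (by ext i; simp [reassoc_of% w])).ShortExact := by
  haveI : ∀ i, Mono (f i) := fun i => (hS i).mono_f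
  haveI : ∀ i, Epi (g i) := fun i => (hS i).epi_g
  haveI := mono_map f hA
  haveI : Epi (Limits.Sigma.map g) := ⟨fun a b hab => Sigma.hom_ext _ _ fun i => (cancel_epi (g i)).1 (by
    have := congrArg (fun q => Sigma.ι B i ≫ q) hab
    simp only [Sigma.ι_map_assoc] at this
    exact this)⟩
  refine ⟨ShortComplex.exact_of_g_is_cokernel _ (Cofork.IsColimit.mk' _ fun t => ?_)⟩
  have ht : ∀ i, f i ≫ Sigma.ι B i ≫ t.π = 0 := fun i => by
    rw [← Sigma.ι_map_assoc f, t.condition, zero_comp, comp_zero]
  refine ⟨Sigma.desc fun i => (hS i).exact.desc (Sigma.ι B i ≫ t.π) (ht i), ?_, fun {m} hm => ?_⟩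
  · refine Sigma.hom_ext _ _ fun i => ?_
    show Sigma.ι B i ≫ Limits.Sigma.map g ≫ _ = _
    rw [Sigma.ι_map_assoc, Sigma.ι_desc]
    exact (hS i).exact.g_desc _ _
  · refine Sigma.hom_ext _ _ fun i => (cancel_epi (g i)).1 ?_
    rw [Sigma.ι_desc, (hS i).exact.g_desc, ← hm]
    show g i ≫ Sigma.ι C i ≫ m = Sigma.ι B i ≫ Limits.Sigma.map g ≫ m
    rw [Sigma.ι_map_assoc]

end Groth.Agent.K0Fam
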