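import Groth.Prelude.Def_ChowK
import Groth.Agent.K0Fam.Sigma
import Groth.Agent.DevLib.Piece

/-! # Classes in the quotient Grothendieck group -/

set_option autoImplicit false
set_option backward.isDefEq.respectTransparency false
set_option linter.style.haveILetI false
set_option linter.unusedSectionVars false

universe u

open CategoryTheory CategoryTheory.Limits AlgebraicGeometry TopologicalSpace
open Groth.Agent.PullbackMod Groth.Agent.DevLib

noncomputable section

namespace Groth.Agent.K0Fam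

variable {X : Scheme.{u}} [IsLocallyNoetherian X] {δ : X → ℤ} {a b : ℤ}

/-- The class in the quotient. -/
abbrev q (δ : X → ℤ) (a b : ℤ) (F : X.Modules) : Cyc.K0CohQuot δ a b := Cyc.toK0CohQuot δ a b F

theorem cohLe_iso {F G : X.Modules} (e : F ≅ G) (h : Cyc.CohLe δ a F) : Cyc.CohLe δ a G := by
  refine ⟨DCohLib.isCoh_iso e h.1, fun x hx => h.2 x ?_⟩
  by_contra hc
  haveI := not_nontrivial_iff_subsingleton.1 hc
  exact not_subsingleton _ (Function.Injective.subsingleton ((isIso_iff_stalk e.inv).1 inferInstance x).1)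

theorem q_add {S : ShortComplex X.Modules} (hS : S.ShortExact) (h₁ : Cyc.CohLe δ a S.X₁)
    (h₂ : Cyc.CohLe δ a S.X₂) (h₃ : Cyc.CohLe δ a S.X₃) : q δ a b S.X₂ = q δ a b S.X₁ + q δ a b S.X₃ := by
  rw [q, q, q, Cyc.toK0CohQuot, Cyc.toK0CohQuot, Cyc.toK0CohQuot, K0ResLib.clSub_add hS h₁ h₂ h₃,
    QuotientAddGroup.mk_add]

theorem q_low {F : X.Modules} (h : Cyc.CohLe δ b F) : q δ a b F = 0 :=
  (QuotientAddGroup.eq_zero_iff _).2 (AddSubgroup.subset_closure ⟨F, h, rfl⟩)

theorem cohLe_of_ses {S : ShortComplex X.Modules} (hS : S.ShortExact) (h₂ : Cyc.CohLe δ a S.X₂)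
    (h₁ : Coh.IsCoh S.X₁) (h₃ : Coh.IsCoh S.X₃) : Cyc.CohLe δ a S.X₁ ∧ Cyc.CohLe δ a S.X₃ :=
  ⟨⟨h₁, fun x hx => h₂.2 x (not_subsingleton_iff_nontrivial.1 ((support_X₂ hS).superset (Or.inl (not_subsingleton_iff_nontrivial.2 hx))))⟩,
    ⟨h₃, fun x hx => h₂.2 x (not_subsingleton_iff_nontrivial.1 ((support_X₂ hS).superset (Or.inr (not_subsingleton_iff_nontrivial.2 hx))))⟩⟩

theorem cohLe_X₂ {S : ShortComplex X.Modules} (hS : S.ShortExact) (h₁ : Cyc.CohLe δ a S.X₁)
    (h₃ : Cyc.CohLe δ a S.X₃) : Cyc.CohLe δ a S.X₂ :=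
  ⟨QCohLib.isCoh_X₂ hS h₁.1 h₃.1, fun x hx => ((support_X₂ hS).subset (not_subsingleton_iff_nontrivial.2 hx)).elim
    (fun h => h₁.2 x (not_subsingleton_iff_nontrivial.1 h)) fun h => h₃.2 x (not_subsingleton_iff_nontrivial.1 h)⟩

theorem cohLe_zero {Z : X.Modules} (hZ : IsZero Z) : Cyc.CohLe δ a Z := by
  refine ⟨ProjCoh.isCoh_of_iso ((isZero_cokernel_of_epi (𝟙 (Coh.structureModule X))).iso hZ)
    (QCohLib.isCoh_kernel_cokernel (𝟙 (Coh.structureModule X))
      (DevLib.isCoh_structureModule X) (DevLib.isCoh_structureModule X)).2, fun x hx => ?_⟩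
  haveI : Subsingleton (Z.presheaf.stalk x) := subsingleton_of_forall_eq 0 fun z => by
    have h : stalkLin (𝟙 Z) x = stalkLin (0 : Z ⟶ Z) x := by rw [(IsZero.iff_id_eq_zero Z).1 hZ]
    rw [stalkLin_id, stalkLin_zero] at h
    exact LinearMap.congr_fun h z
  exact (not_subsingleton _ this).elim

theorem q_iso {F G : X.Modules} (e : F ≅ G) (h : Cyc.CohLe δ a F) : q δ a b F = q δ a b G := by
  have hz : IsZero (kernel e.hom) := isZero_kernel_of_mono _
  have hS := K0ResLib.kerSC_shortExact e.hom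
  rw [show q δ a b F = _ from q_add hS (cohLe_zero hz) h (cohLe_iso e h), q_low (cohLe_zero hz), zero_add]

theorem isCoh_image {F G : X.Modules} (f : F ⟶ G) (hF : Coh.IsCoh F) (hG : Coh.IsCoh G) :
    Coh.IsCoh (Abelian.image f) :=
  (QCohLib.isCoh_kernel_cokernel _ hG (QCohLib.isCoh_kernel_cokernel f hF hG).2).1

/-- A map bijective at the points of high dimension does not change the class. -/
theorem q_of_bijective {F G : X.Modules} (f : F ⟶ G) (hF : Cyc.CohLe δ a F) (hG : Cyc.CohLe δ a G)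
    (hf : ∀ x, b < δ x → Function.Bijective (stalkLin f x)) : q δ a b F = q δ a b G := by
  let S₁ : ShortComplex X.Modules := ShortComplex.mk (kernel.ι f) (Abelian.factorThruImage f)
    ((cancel_mono (Abelian.image.ι f)).1 (by simp))
  have hS₁ : S₁.ShortExact :=
    { exact := ShortComplex.exact_of_f_is_kernel _ (KernelFork.IsLimit.ofι _ _
        (fun x hx => kernel.lift f x (by rw [← Abelian.image.fac f, reassoc_of% hx, zero_comp]))
        (fun x hx => kernel.lift_ι _ _ _)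
        (fun x hx m hm => (cancel_mono (kernel.ι f)).1 (by simpa using hm)))
      mono_f := inferInstanceAs (Mono (kernel.ι f))
      epi_g := inferInstanceAs (Epi (Abelian.factorThruImage f)) }
  have hk := QCohLib.isCoh_kernel_cokernel f hF.1 hG.1
  have hI := isCoh_image f hF.1 hG.1
  let S₂ : ShortComplex X.Modules := ShortComplex.mk (Abelian.image.ι f) (cokernel.π f) (kernel.condition _)
  have hS₂ : S₂.ShortExact :=
    { exact := ShortComplex.exact_of_f_is_kernel _ (kernelIsKernel _)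
      mono_f := inferInstanceAs (Mono (kernel.ι _))
      epi_g := inferInstanceAs (Epi (cokernel.π f)) }
  obtain ⟨h1, h2⟩ := cohLe_of_ses hS₁ hF hk.1 hI
  obtain ⟨h3, h4⟩ := cohLe_of_ses hS₂ hG hI hk.2
  have hk0 : Cyc.CohLe δ b (kernel f) := ⟨hk.1, fun x hx => le_of_not_gt fun hbx => by
    refine not_subsingleton _ (subsingleton_of_forall_eq (α := (kernel f).presheaf.stalk x) 0 fun z => ?_)
    refine (mono_iff_stalk (kernel.ι f)).1 inferInstance x ((hf x hbx).1 ?_)
    rw [map_zero, map_zero, ← LinearMap.comp_apply, ← stalkLin_comp, kernel.condition, stalkLin_zero]; rfl⟩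
  have hc0 : Cyc.CohLe δ b (cokernel f) := ⟨hk.2, fun x hx => le_of_not_gt fun hbx => by
    refine not_subsingleton _ (subsingleton_of_forall_eq (α := (cokernel f).presheaf.stalk x) 0 fun z => ?_)
    obtain ⟨w, rfl⟩ := (epi_iff_stalk (cokernel.π f)).1 inferInstance x z
    obtain ⟨v, rfl⟩ := (hf x hbx).2 w
    rw [← LinearMap.comp_apply, ← stalkLin_comp, cokernel.condition, stalkLin_zero]; rfl⟩
  rw [show q δ a b F = q δ a b (kernel f) + q δ a b (Abelian.image f) from q_add hS₁ h1 hF h2,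
    show q δ a b G = q δ a b (Abelian.image f) + q δ a b (cokernel f) from q_add hS₂ h3 hG h4,
    q_low hk0, q_low hc0, zero_add, add_zero]

variable {I J : Type u}

theorem cohLe_sigma {G : I → X.Modules} (h : LocFinSupp G) (hG : ∀ i, Cyc.CohLe δ a (G i)) : Cyc.CohLe δ a (∐ G) :=
  ⟨isCoh_sigma h fun i => (hG i).1, fun x hx => by
    obtain ⟨i, hi⟩ := Set.mem_iUnion.1 (support_sigma_subset h (not_subsingleton_iff_nontrivial.2 hx))
    exact (hG i).2 x (not_subsingleton_iff_nontrivial.1 hi)⟩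

theorem q_sigma_low {G : I → X.Modules} (h : LocFinSupp G) (hG : ∀ i, Cyc.CohLe δ b (G i)) : q δ a b (∐ G) = 0 :=
  q_low (cohLe_sigma h hG)

theorem q_sigma_add {A B C : I → X.Modules} (f : ∀ i, A i ⟶ B i) (g : ∀ i, B i ⟶ C i) (w : ∀ i, f i ≫ g i = 0)
    (hS : ∀ i, (ShortComplex.mk (f i) (g i) (w i)).ShortExact) (hA : ∀ i, Cyc.CohLe δ a (A i))
    (hB : ∀ i, Cyc.CohLe δ a (B i)) (hC : ∀ i, Cyc.CohLe δ a (C i)) (lA : LocFinSupp A) (lB : LocFinSupp B)
    (lC : LocFinSupp C) : q δ a b (∐ B) = q δ a b (∐ A) + q δ a b (∐ C) :=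
  q_add (shortExact_sigma f g w hS lA) (cohLe_sigma lA hA) (cohLe_sigma lB hB) (cohLe_sigma lC hC)

theorem q_sigma_congr {G G' : I → X.Modules} (φ : ∀ i, G i ⟶ G' i) (h : LocFinSupp G) (h' : LocFinSupp G')
    (hG : ∀ i, Cyc.CohLe δ a (G i)) (hG' : ∀ i, Cyc.CohLe δ a (G' i))
    (hb : ∀ i x, b < δ x → Function.Bijective (stalkLin (φ i) x)) : q δ a b (∐ G) = q δ a b (∐ G') :=
  q_of_bijective (Limits.Sigma.map φ) (cohLe_sigma h hG) (cohLe_sigma h' hG') fun x hx =>
    bijective_map φ h h' fun i => hb i x hx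

theorem q_sigma_reindex {G : I → X.Modules} {G' : J → X.Modules} (e : I ≃ J) (φ : ∀ i, G' (e i) ≅ G i)
    (h : LocFinSupp G) (hG : ∀ i, Cyc.CohLe δ a (G i)) : q δ a b (∐ G) = q δ a b (∐ G') :=
  q_iso (Limits.Sigma.whiskerEquiv e φ) (cohLe_sigma h hG)

theorem q_sigma_sum {G : I → X.Modules} {H : J → X.Modules} (h : LocFinSupp G) (h' : LocFinSupp H)
    (hG : ∀ i, Cyc.CohLe δ a (G i)) (hH : ∀ j, Cyc.CohLe δ a (H j)) :
    q δ a b (∐ Sum.elim G H) = q δ a b (∐ G) + q δ a b (∐ H) := by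
  let K : I ⊕ J → X.Modules := Sum.elim G H
  let f : (∐ G) ⟶ ∐ K := Sigma.desc fun i => Sigma.ι K (Sum.inl i)
  let g : (∐ K) ⟶ ∐ H := Sigma.desc fun c => match c with
    | Sum.inl _ => 0
    | Sum.inr j => Sigma.ι H j
  have w : f ≫ g = 0 := Sigma.hom_ext _ _ fun i => by simp [f, g, K]
  let sp : (ShortComplex.mk f g w).Splitting :=
    { r := Sigma.desc fun c => match c with
        | Sum.inl i => Sigma.ι G i
        | Sum.inr _ => 0
      s := Sigma.desc fun j => Sigma.ι K (Sum.inr j)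
      f_r := Sigma.hom_ext _ _ fun i => by simp [f, K]
      s_g := Sigma.hom_ext _ _ fun j => by simp [g, K]
      id := Sigma.hom_ext _ _ fun c => by
        rcases c with i | j <;> simp [f, g, K] }
  exact q_add sp.shortExact (cohLe_sigma h hG) (cohLe_X₂ sp.shortExact (cohLe_sigma h hG) (cohLe_sigma h' hH))
    (cohLe_sigma h' hH)

end Groth.Agent.K0Fam
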