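import Groth.Agent.K0Fam.Sigma
import Groth.Agent.DevLib.Power

/-! # Classes of locally finite filtrations -/

set_option autoImplicit false
set_option backward.isDefEq.respectTransparency false
set_option linter.style.haveILetI false
set_option linter.unusedSectionVars false

universe u

open CategoryTheory CategoryTheory.Limits AlgebraicGeometry TopologicalSpace
open Groth.Agent.PullbackMod Groth.Agent.DevLib

noncomputable section

namespace Groth.Agent.K0Fam

variable {X : Scheme.{u}} [IsLocallyNoetherian X]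

/-- A class of coherent modules closed under coherent subobjects, coherent quotients and locally finite sums. -/
structure Nice (P : ObjectProperty X.Modules) : Prop where
  coh : ∀ {M}, P M → Coh.IsCoh M
  mono : ∀ {M N : X.Modules} (f : M ⟶ N) [Mono f], Coh.IsCoh M → P N → P M
  epi : ∀ {M N : X.Modules} (f : M ⟶ N) [Epi f], Coh.IsCoh N → P M → P N
  sigma : ∀ {I : Type u} {G : I → X.Modules}, LocFinSupp G → (∀ i, P (G i)) → P (∐ G)

theorem support_subset_of_epi {M N : X.Modules} (f : M ⟶ N) [Epi f] : CohB1.support N ⊆ CohB1.support M :=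
  fun x hx hs => hx (((epi_iff_stalk f).1 inferInstance x).subsingleton)

theorem LocFin.prod {I J : Type u} {C : I → Set X} {D : J → Set X} (h : LocFin C) (h' : LocFin D) :
    LocFin fun p : I × J => C p.1 ∩ D p.2 := fun x => by
  obtain ⟨W, hx, hW⟩ := h x
  obtain ⟨W', hx', hW'⟩ := h' x
  exact ⟨W ⊓ W', ⟨hx, hx'⟩, (hW.prod hW').subset fun p ⟨y, ⟨hy, hy'⟩, hyW, hyW'⟩ =>
    ⟨⟨y, hy, hyW⟩, ⟨y, hy', hyW'⟩⟩⟩

variable {P : ObjectProperty X.Modules} (hP : Nice P)
include hP

theorem Nice.iso {M N : X.Modules} (e : M ≅ N) (h : P M) : P N :=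
  hP.epi e.hom (DCohLib.isCoh_iso e (hP.coh h)) h

theorem cl_isZero {M : X.Modules} (h : IsZero M) : KZero.clSub P M = 0 := by
  by_cases hM : P M
  · have hS : (ShortComplex.mk (0 : M ⟶ M) (0 : M ⟶ M) zero_comp).ShortExact :=
      { exact := ShortComplex.exact_of_isZero_X₂ _ h
        mono_f := ⟨fun _ _ _ => h.eq_of_tgt _ _⟩
        epi_g := ⟨fun _ _ _ => h.eq_of_src _ _⟩ }
    simpa using K0ResLib.clSub_add hS hM hM hM
  · exact dif_neg hM

theorem cl_iso {M N : X.Modules} (e : M ≅ N) (hM : P M) :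
    KZero.clSub P M = KZero.clSub P N := by
  have hN := hP.iso e hM
  have hk : P (kernel e.hom) :=
    hP.mono (kernel.ι e.hom) (QCohLib.isCoh_kernel_cokernel e.hom (hP.coh hM) (hP.coh hN)).1 hM
  have h := K0ResLib.clSub_add (K0ResLib.kerSC_shortExact e.hom) hk hM hN
  rw [cl_isZero hP (isZero_kernel_of_mono e.hom), zero_add] at h
  exact h

variable {I J : Type u}

theorem cl_sigma_add {A B C : I → X.Modules} (f : ∀ i, A i ⟶ B i) (g : ∀ i, B i ⟶ C i) (w : ∀ i, f i ≫ g i = 0)
    (hS : ∀ i, (ShortComplex.mk (f i) (g i) (w i)).ShortExact) (hA : ∀ i, P (A i)) (hB : ∀ i, P (B i))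
    (hC : ∀ i, P (C i)) (lA : LocFinSupp A) (lB : LocFinSupp B) (lC : LocFinSupp C) :
    KZero.clSub P (∐ B) = KZero.clSub P (∐ A) + KZero.clSub P (∐ C) :=
  K0ResLib.clSub_add (shortExact_sigma f g w hS lA) (hP.sigma lA hA) (hP.sigma lB hB) (hP.sigma lC hC)

theorem cl_sigma_reindex {G : I → X.Modules} {G' : J → X.Modules} (e : I ≃ J) (φ : ∀ i, G' (e i) ≅ G i)
    (h : LocFinSupp G) (hG : ∀ i, P (G i)) : KZero.clSub P (∐ G) = KZero.clSub P (∐ G') :=
  cl_iso hP (Limits.Sigma.whiskerEquiv e φ) (hP.sigma h hG)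

theorem cl_sigma_sum {G : I → X.Modules} {H : J → X.Modules} (h : LocFinSupp G) (h' : LocFinSupp H)
    (hG : ∀ i, P (G i)) (hH : ∀ j, P (H j)) (h'' : P (∐ Sum.elim G H)) :
    KZero.clSub P (∐ Sum.elim G H) = KZero.clSub P (∐ G) + KZero.clSub P (∐ H) := by
  let K : I ⊕ J → X.Modules := Sum.elim G H
  let f : (∐ G) ⟶ ∐ K := Sigma.desc fun i => Sigma.ι K (Sum.inl i)
  let g : (∐ K) ⟶ ∐ H := Sigma.desc fun c => match c with
    | Sum.inl _ => 0
    | Sum.inr j => Sigma.ι H j
  have w : f ≫ g = 0 := Sigma.hom_ext _ _ fun i => by simp [f, g, K]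
  let sp : (ShortComplex.mk f g w).Splitting :=
    { r := Sigma.desc fun c => match c with
        | Sum.inl i => Sigma.ι G i
        | Sum.inr _ => 0
      s := Sigma.desc fun j => Sigma.ι K (Sum.inr j)
      f_r := Sigma.hom_ext _ _ fun i => by simp [f, K]
      s_g := Sigma.hom_ext _ _ fun j => by simp [g, K]
      id := Sigma.hom_ext _ _ fun c => by
        rcases c with i | j <;> simp [f, g, K] }
  exact K0ResLib.clSub_add sp.shortExact (hP.sigma h hG) h'' (hP.sigma h' hH)

omit hP in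
/-- Shifting the natural numbers. -/
def shift (I : Type u) : I ⊕ (I × ULift.{u} ℕ) ≃ I × ULift.{u} ℕ where
  toFun := Sum.elim (fun i => (i, ⟨0⟩)) fun p => (p.1, ⟨p.2.down + 1⟩)
  invFun p := match p with
    | (i, ⟨0⟩) => Sum.inl i
    | (i, ⟨j + 1⟩) => Sum.inr (i, ⟨j⟩)
  left_inv p := by rcases p with i | ⟨i, ⟨j⟩⟩ <;> rfl
  right_inv := by rintro ⟨i, ⟨_ | j⟩⟩ <;> rfl

/-- A locally finite family of finite filtrations: the class of the first stages is the class of the successive
quotients. -/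
theorem cl_tele (R : I → ℕ → X.Modules) (e : ∀ i j, R i (j + 1) ⟶ R i j) (he : ∀ i j, Mono (e i j))
    (hR : ∀ i j, P (R i j)) (l : LocFinSupp fun p : I × ULift.{u} ℕ => R p.1 p.2.down) :
    KZero.clSub P (∐ fun i => R i 0) =
      KZero.clSub P (∐ fun p : I × ULift.{u} ℕ => cokernel (e p.1 p.2.down)) := by
  let A : I × ULift.{u} ℕ → X.Modules := fun p => R p.1 (p.2.down + 1)
  let B : I × ULift.{u} ℕ → X.Modules := fun p => R p.1 p.2.down
  let C : I × ULift.{u} ℕ → X.Modules := fun p => cokernel (e p.1 p.2.down)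
  let R₀ : I → X.Modules := fun i => R i 0
  have lA : LocFinSupp A :=
    LocFin.comp (C := fun p : I × ULift.{u} ℕ => CohB1.support (R p.1 p.2.down)) l
      (fun p : I × ULift.{u} ℕ => ((p.1, ⟨p.2.down + 1⟩) : I × ULift.{u} ℕ)) fun p q h =>
        Prod.ext (congrArg (fun z : I × ULift.{u} ℕ => z.1) h :)
          (ULift.ext _ _ (Nat.succ_injective (congrArg (fun z : I × ULift.{u} ℕ => z.2.down) h :)))
  have l₀ : LocFinSupp R₀ := LocFin.comp (C := fun p : I × ULift.{u} ℕ => CohB1.support (R p.1 p.2.down)) l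
    (fun i : I => ((i, ⟨0⟩) : I × ULift.{u} ℕ)) fun p q h => (congrArg (fun z : I × ULift.{u} ℕ => z.1) h :)
  have lC : LocFinSupp C := LocFin.mono l fun p => by
    haveI := he p.1 p.2.down
    exact support_coker_subset (e p.1 p.2.down)
  have hA : ∀ p, P (A p) := fun p => hR _ _
  have hC : ∀ p, P (C p) := fun p =>
    hP.epi (cokernel.π (e p.1 p.2.down))
      (QCohLib.isCoh_kernel_cokernel (e p.1 p.2.down) (hP.coh (hR _ _)) (hP.coh (hR _ _))).2 (hR _ _)
  have lK : LocFinSupp (Sum.elim R₀ A) := by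
    refine LocFin.mono (LocFin.comp (C := fun p : I × ULift.{u} ℕ => CohB1.support (R p.1 p.2.down)) l (shift I) (shift I).injective) fun s => ?_
    rcases s with i | p
    · exact subset_rfl
    · exact subset_rfl
  have hK : ∀ s, P (Sum.elim R₀ A s) := fun s => by
    rcases s with i | p
    · exact hR _ _
    · exact hR _ _
  have h1 := cl_sigma_add hP (A := A) (B := B) (C := C) (fun p => e p.1 p.2.down) (fun p => cokernel.π (e p.1 p.2.down))
    (fun p => cokernel.condition _) (fun p => haveI := he p.1 p.2.down; cokerSeq_shortExact _) hA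
    (fun p => hR _ _) hC lA l lC
  have h2 : KZero.clSub P (∐ Sum.elim R₀ A) = KZero.clSub P (∐ B) := by
    refine cl_sigma_reindex hP (shift I) (fun s => ?_) lK hK
    rcases s with i | p
    · exact Iso.refl _
    · exact Iso.refl _
  rw [cl_sigma_sum hP l₀ lA (fun i => hR i 0) hA (hP.sigma lK hK)] at h2
  have h3 := h2.trans h1
  rw [add_comm (KZero.clSub P (∐ A))] at h3
  exact add_right_cancel h3

end Groth.Agent.K0Fam
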