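import Groth.Agent.K0Fam.Dist
import Groth.Agent.K0Fam.Part
import Groth.Agent.K0Fam.Tele
import Groth.Agent.CycLib.DivPull
import Groth.Agent.CycLib.StalkMod
import Groth.Agent.CycLib.Frac
import Groth.Agent.RefOne.Stalk
import Groth.Prelude.Def_ChowK

/-! # Stalks at the points of top dimension -/

set_option autoImplicit false
set_option backward.isDefEq.respectTransparency false
set_option linter.style.haveILetI false
set_option linter.unusedSectionVars false

universe u

open CategoryTheory CategoryTheory.Limits AlgebraicGeometry TopologicalSpace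
open Groth.Agent.PullbackMod Groth.Agent.DevLib Groth.Agent.OrdDet

noncomputable section

namespace Groth.Agent.K0Fam

variable {X : Scheme.{u}} [IsLocallyNoetherian X] (δ : X → ℤ) (k : ℤ)

/-- Coherent modules of dimension at most `k + 1` whose stalks at the points of dimension `k + 1` are killed by
the maximal ideal. -/
def SSP : ObjectProperty X.Modules := fun G => Cyc.CohLe δ (k + 1) G ∧
  ∀ η : X, δ η = k + 1 → ∀ a ∈ IsLocalRing.maximalIdeal (X.presheaf.stalk η), ∀ z : G.presheaf.stalk η, a • z = 0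

theorem nice_ssp : Nice (SSP δ k) where
  coh h := h.1.1
  mono f _ hM hN := ⟨⟨hM, fun x hx => hN.1.2 x (((mono_iff_stalk f).1 inferInstance x).nontrivial)⟩,
    fun η hη a ha z => (mono_iff_stalk f).1 inferInstance η (by rw [map_smul, hN.2 η hη a ha, map_zero])⟩
  epi f _ hN hM := ⟨⟨hN, fun x hx => hM.1.2 x (((epi_iff_stalk f).1 inferInstance x).nontrivial)⟩,
    fun η hη a ha z => by
      obtain ⟨w, rfl⟩ := (epi_iff_stalk f).1 inferInstance η z
      rw [← map_smul, hM.2 η hη a ha, map_zero]⟩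
  sigma {I G} h hG := ⟨cohLe_sigma h fun i => (hG i).1,
    fun η hη a ha z => (stalkEquiv G _ fun j hj => h.subsingleton η hj).injective (by
      rw [map_smul, map_zero]
      exact funext fun j => (hG j.1).2 η hη a ha _)⟩

/-- The points of top dimension. -/
abbrev Top : Type u := {η : X // δ η = k + 1}

/-- The points of top dimension specializing to a point. -/
abbrev Tx (x : X) : Type u := {η : Top δ k // η.1 ⤳ x}

variable {δ k} (F : Subtype (SSP δ k))

/-- The stalk at a point of top dimension, a vector space over the residue field. -/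
def KV (η : Top δ k) : Type u := F.1.presheaf.stalk η.1

instance (η : Top δ k) : AddCommGroup (KV F η) := inferInstanceAs (AddCommGroup (F.1.presheaf.stalk η.1))

instance (η : Top δ k) : Module (X.presheaf.stalk η.1) (KV F η) :=
  inferInstanceAs (Module (X.presheaf.stalk η.1) (F.1.presheaf.stalk η.1))

instance moduleResidue (η : Top δ k) : Module (X.residueField η.1) (KV F η) :=
  Module.IsTorsionBySet.module (R := X.presheaf.stalk η.1) (M := KV F η)
    (I := IsLocalRing.maximalIdeal (X.presheaf.stalk η.1)) fun z a => F.2.2 η.1 η.2 a.1 a.2 z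

theorem residue_smul (η : Top δ k) (a : X.presheaf.stalk η.1) (z : KV F η) : X.residue η.1 a • z = a • z := rfl

instance finiteDimensional (η : Top δ k) : FiniteDimensional (X.residueField η.1) (KV F η) := by
  haveI : Module.Finite (X.presheaf.stalk η.1) (KV F η) := CycLib.finite_stalk F.2.1.1 η.1
  letI : Algebra (X.presheaf.stalk η.1) (X.residueField η.1) := (X.residue η.1).hom.toAlgebra
  haveI : IsScalarTower (X.presheaf.stalk η.1) (X.residueField η.1) (KV F η) :=
    .of_algebraMap_smul fun a z => residue_smul F η a z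
  exact Module.Finite.of_restrictScalars_finite (X.presheaf.stalk η.1) _ _

variable {x : X}

instance algebraTop (η : Tx δ k x) : Algebra (X.presheaf.stalk x) (X.residueField η.1.1) :=
  (Cyc.specMap x η.1.1 η.2).toAlgebra

instance moduleTop (η : Tx δ k x) : Module (X.presheaf.stalk x) (KV F η.1) :=
  Module.compHom (KV F η.1) (Cyc.specMap x η.1.1 η.2)

instance (η : Tx δ k x) : IsScalarTower (X.presheaf.stalk x) (X.residueField η.1.1) (KV F η.1) :=
  .of_algebraMap_smul fun _ _ => rfl

theorem smul_top_def (η : Tx δ k x) (a : X.presheaf.stalk x) (z : KV F η.1) :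
    a • z = Cyc.specMap x η.1.1 η.2 a • z := rfl

theorem smul_top_eq_zero (η : Tx δ k x) {a : X.presheaf.stalk x} (ha : Cyc.specMap x η.1.1 η.2 a = 0)
    (z : KV F η.1) : a • z = 0 := by rw [smul_top_def, ha, zero_smul]

variable (x) in
/-- The stalks at the points of top dimension above a point. -/
abbrev VX : Type u := (η : Tx δ k x) → KV F η.1

variable (x) in
/-- The map to the stalks at the points of top dimension. -/
def toVX : F.1.presheaf.stalk x →ₗ[X.presheaf.stalk x] VX F x where
  toFun z η := (F.1.presheaf.stalkSpecializes η.2 z : F.1.presheaf.stalk η.1.1)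
  map_add' a b := funext fun η => map_add (F.1.presheaf.stalkSpecializes η.2).hom a b
  map_smul' a z := funext fun η => RefOne.stalkSpecializes_smul F.1 η.2 a z

/-- Functoriality of the stalks. -/
def kvMap {F G : Subtype (SSP δ k)} (φ : F.1 ⟶ G.1) (η : Top δ k) :
    KV F η →ₗ[X.residueField η.1] KV G η where
  toFun := stalkLin φ η.1
  map_add' := map_add (stalkLin φ η.1)
  map_smul' c z := by
    obtain ⟨a, rfl⟩ := X.residue_surjective η.1 c
    exact (stalkLin φ η.1).map_smul a z

variable (x) in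
/-- Functoriality of the product. -/
def vxMap {F G : Subtype (SSP δ k)} (φ : F.1 ⟶ G.1) : VX F x →ₗ[X.presheaf.stalk x] VX G x :=
  LinearMap.pi fun η => ((kvMap φ η.1).restrictScalars (X.presheaf.stalk x)).comp (LinearMap.proj η)

theorem vxMap_toVX {F G : Subtype (SSP δ k)} (φ : F.1 ⟶ G.1) :
    (vxMap x φ).comp (toVX F x) = (toVX G x).comp (stalkLin φ x) := by
  refine LinearMap.ext fun z => funext fun η => ?_
  obtain ⟨U, hx, s, rfl⟩ := TopCat.Presheaf.exists_germ_eq F.1.presheaf z
  show stalkLin φ η.1.1 (F.1.presheaf.stalkSpecializes η.2 (F.1.presheaf.germ U x hx s)) =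
    G.1.presheaf.stalkSpecializes η.2 (stalkLin φ x (F.1.presheaf.germ U x hx s))
  rw [TopCat.Presheaf.germ_stalkSpecializes_apply, stalkLin_germ, stalkLin_germ,
    TopCat.Presheaf.germ_stalkSpecializes_apply]

theorem finite_support (hδ : Cyc.IsDimFun X δ) :
    {η : Tx δ k x | Nontrivial (KV F η.1)}.Finite := by
  have h := (locFin_pts hδ F.2.1).finite_mem x
  refine Set.Finite.of_finite_image (f := fun η : Tx δ k x => η.1.1) ((h.image Subtype.val).subset ?_)
    (fun a _ b _ e => Subtype.ext (Subtype.ext e))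
  rintro _ ⟨η, hη, rfl⟩
  exact ⟨⟨η.1.1, η.1.2, hη⟩, specializes_iff_mem_closure.1 η.2, rfl⟩

section Primes

variable {δ : X → ℤ} {k : ℤ} {x : X}

/-- A generalization different from a point of top dimension gives a killer. -/
theorem exists_killer (hδ : Cyc.IsDimFun X δ) (hx : δ x = k) {p : PrimeSpectrum (X.presheaf.stalk x)}
    (hp : p.asIdeal ≠ IsLocalRing.maximalIdeal _) (η : Tx δ k x) (hne : η.1.1 ≠ X.fromSpecStalk x p) :
    ∃ s ∉ p.asIdeal, Cyc.specMap x η.1.1 η.2 s = 0 := by
  by_contra hc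
  push Not at hc
  let q : PrimeSpectrum (X.presheaf.stalk x) := ⟨RingHom.ker (Cyc.specMap x η.1.1 η.2), inferInstance⟩
  have hle : q ≤ p := fun s hs => by
    by_contra hsp
    exact hc s hsp hs
  have h1 := (CycLib.fromSpecStalk_specializes_iff q p).2 hle
  rw [CycLib.fromSpecStalk_ker] at h1
  have h2 := (hδ _ _ h1 hne).1
  rw [η.1.2] at h2
  have hne2 : X.fromSpecStalk x p ≠ x := fun e => hp (congrArg PrimeSpectrum.asIdeal
    (show p = IsLocalRing.closedPoint _ from (X.fromSpecStalk x).isEmbedding.injective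
      (e.trans Scheme.fromSpecStalk_closedPoint.symm)))
  have h3 := (hδ _ _ (CycLib.fromSpecStalk_specializes p) hne2).1
  omega

theorem notMem_iff {p : PrimeSpectrum (X.presheaf.stalk x)} (η : Tx δ k x) (he : η.1.1 = X.fromSpecStalk x p)
    (s : X.presheaf.stalk x) : s ∉ p.asIdeal ↔ Cyc.specMap x η.1.1 η.2 s ≠ 0 := by
  obtain ⟨⟨η, hη⟩, hs⟩ := η
  dsimp at he hs ⊢
  subst he
  rw [← CycLib.ker_specMap_eq p hs, RingHom.mem_ker]

end Primes

variable (hδ : Cyc.IsDimFun X δ) (hx : δ x = k)
include hδ hx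

theorem exists_killer_finset {p : PrimeSpectrum (X.presheaf.stalk x)} (hp : p.asIdeal ≠ IsLocalRing.maximalIdeal _)
    (S : Finset (Tx δ k x)) : ∃ s ∉ p.asIdeal, ∀ η ∈ S, η.1.1 ≠ X.fromSpecStalk x p →
      Cyc.specMap x η.1.1 η.2 s = 0 := by
  classical
  induction S using Finset.induction with
  | empty => exact ⟨1, fun h => p.2.ne_top ((Ideal.eq_top_iff_one _).2 h), by simp⟩
  | insert a S ha ih =>
    obtain ⟨s, hs, hsS⟩ := ih
    by_cases he : a.1.1 = X.fromSpecStalk x p
    · refine ⟨s, hs, fun η hη hne => ?_⟩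
      rcases Finset.mem_insert.1 hη with rfl | h
      · exact absurd he hne
      · exact hsS η h hne
    · obtain ⟨t, ht, ht0⟩ := exists_killer hδ hx hp a he
      refine ⟨s * t, fun h => (p.2.mem_or_mem h).elim hs ht, fun η hη hne => ?_⟩
      rw [map_mul]
      rcases Finset.mem_insert.1 hη with rfl | h
      · rw [ht0, mul_zero]
      · rw [hsS η h hne, zero_mul]

/-- Off the maximal ideal only one component of a vector is left. -/
theorem exists_smul_eq_single {p : PrimeSpectrum (X.presheaf.stalk x)} (hp : p.asIdeal ≠ IsLocalRing.maximalIdeal _) :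
    ∃ s ∉ p.asIdeal, ∀ η : Tx δ k x, η.1.1 ≠ X.fromSpecStalk x p → ∀ z : KV F η.1, s • z = 0 := by
  classical
  obtain ⟨s, hs, hsS⟩ := exists_killer_finset hδ hx hp (finite_support F (x := x) hδ).toFinset
  refine ⟨s, hs, fun η hne z => ?_⟩
  by_cases hn : Nontrivial (KV F η.1)
  · exact smul_top_eq_zero F η (hsS η ((Set.Finite.mem_toFinset _).2 hn) hne) z
  · haveI := not_nontrivial_iff_subsingleton.1 hn
    exact Subsingleton.elim _ _

theorem exists_smul_mem_range {p : PrimeSpectrum (X.presheaf.stalk x)} (hp : p.asIdeal ≠ IsLocalRing.maximalIdeal _)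
    (v : VX F x) : ∃ s ∉ p.asIdeal, s • v ∈ LinearMap.range (toVX F x) := by
  classical
  obtain ⟨s, hs, hs0⟩ := exists_smul_eq_single F hδ hx hp
  by_cases he : ∃ η : Tx δ k x, η.1.1 = X.fromSpecStalk x p
  swap
  · push Not at he
    refine ⟨s, hs, ?_⟩
    rw [show s • v = 0 from funext fun η => hs0 η (he η) _]
    exact zero_mem _
  obtain ⟨η, he⟩ := he
  obtain ⟨W, hW, hxW, -⟩ := exists_isAffineOpen_mem_and_subset (x := x) (U := (⊤ : X.Opens)) trivial
  have hηW : η.1.1 ∈ W := η.2.mem_open W.2 hxW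
  haveI := F.2.1.1.1
  letI := Module.compHom (F.1.presheaf.stalk η.1.1) (X.presheaf.germ W η.1.1 hηW).hom
  haveI := FlatLocus.isLocalizedModule_germL F.1 hW η.1.1 hηW
  obtain ⟨⟨m, c⟩, hmc⟩ := IsLocalizedModule.surj (hW.primeIdealOf ⟨η.1.1, hηW⟩).asIdeal.primeCompl
    (FlatLocus.germL F.1 W η.1.1 hηW) (v η)
  have hu : IsUnit (X.presheaf.germ W η.1.1 hηW c.1) := by
    letI : Algebra Γ(X, W) (X.presheaf.stalk η.1.1) := (X.presheaf.germ W η.1.1 hηW).hom.toAlgebra
    haveI := hW.isLocalization_stalk ⟨η.1.1, hηW⟩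
    exact IsLocalization.map_units (X.presheaf.stalk η.1.1) c
  let cx := X.presheaf.germ W x hxW c.1
  have hcx : Cyc.specMap x η.1.1 η.2 cx ≠ 0 := by
    rw [CycLib.specMap_germ η.2 hxW hηW]
    exact (hu.map (X.residue η.1.1).hom).ne_zero
  refine ⟨s * cx, fun h => (p.2.mem_or_mem h).elim hs ((notMem_iff η he cx).2 hcx),
    s • F.1.presheaf.germ W x hxW m, funext fun η' => ?_⟩
  rw [map_smul]
  show s • (toVX F x (F.1.presheaf.germ W x hxW m)) η' = (s * cx) • v η'
  by_cases hη' : η'.1.1 = X.fromSpecStalk x p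
  · obtain rfl : η' = η := Subtype.ext (Subtype.ext (hη'.trans he.symm))
    rw [mul_smul]
    congr 1
    show F.1.presheaf.stalkSpecializes η'.2 (F.1.presheaf.germ W x hxW m) =
      Cyc.specMap x η'.1.1 η'.2 cx • v η'
    rw [TopCat.Presheaf.germ_stalkSpecializes_apply, CycLib.specMap_germ η'.2 hxW hηW, residue_smul]
    exact hmc.symm
  · rw [hs0 η' hη', mul_comm s, mul_smul, hs0 η' hη', smul_zero]

theorem exists_smul_eq_zero {p : PrimeSpectrum (X.presheaf.stalk x)} (hp : p.asIdeal ≠ IsLocalRing.maximalIdeal _)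
    (y : F.1.presheaf.stalk x) (hy : toVX F x y = 0) : ∃ s ∉ p.asIdeal, s • y = 0 := by
  obtain ⟨z, hz⟩ : ∃ z, z = X.fromSpecStalk x p := ⟨_, rfl⟩
  have hzx : z ⤳ x := hz ▸ CycLib.fromSpecStalk_specializes p
  have hy0 : F.1.presheaf.stalkSpecializes hzx y = 0 := by
    by_cases hn : Nontrivial (F.1.presheaf.stalk z)
    · have hne2 : z ≠ x := fun e => hp (congrArg PrimeSpectrum.asIdeal
        (show p = IsLocalRing.closedPoint _ from (X.fromSpecStalk x).isEmbedding.injective
          ((hz.symm.trans e).trans Scheme.fromSpecStalk_closedPoint.symm)))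
      have h1 := (hδ z x hzx hne2).1
      have h2 := F.2.1.2 z hn
      exact congrFun hy (⟨⟨z, by omega⟩, hzx⟩ : Tx δ k x)
    · exact (not_nontrivial_iff_subsingleton.1 hn).elim _ _
  obtain ⟨W, hW, hxW, -⟩ := exists_isAffineOpen_mem_and_subset (x := x) (U := (⊤ : X.Opens)) trivial
  have hzW : z ∈ W := hzx.mem_open W.2 hxW
  haveI := F.2.1.1.1
  letI := Module.compHom (F.1.presheaf.stalk z) (X.presheaf.germ W z hzW).hom
  letI := Module.compHom (F.1.presheaf.stalk x) (X.presheaf.germ W x hxW).hom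
  haveI := FlatLocus.isLocalizedModule_germL F.1 hW z hzW
  haveI := FlatLocus.isLocalizedModule_germL F.1 hW x hxW
  obtain ⟨⟨m, c⟩, hmc⟩ := IsLocalizedModule.surj (hW.primeIdealOf ⟨x, hxW⟩).asIdeal.primeCompl
    (FlatLocus.germL F.1 W x hxW) y
  change X.presheaf.germ W x hxW c.1 • y = F.1.presheaf.germ W x hxW m at hmc
  have hm0 : FlatLocus.germL F.1 W z hzW m = 0 := by
    show F.1.presheaf.germ W z hzW m = 0
    rw [← TopCat.Presheaf.germ_stalkSpecializes_apply F.1.presheaf hxW hzx m, ← hmc, RefOne.stalkSpecializes_smul, hy0,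
      smul_zero]
  obtain ⟨d, hd⟩ := (IsLocalizedModule.eq_zero_iff (hW.primeIdealOf ⟨z, hzW⟩).asIdeal.primeCompl _).1 hm0
  have hmem : ∀ (w : X) (hw : w ⤳ x) (a : Γ(X, W)), w = X.fromSpecStalk x p →
      a ∈ (hW.primeIdealOf ⟨w, hw.mem_open W.2 hxW⟩).asIdeal.primeCompl →
      X.presheaf.germ W x hxW a ∉ p.asIdeal := fun w hw a e ha => by
    subst e
    letI : Algebra Γ(X, W) (X.presheaf.stalk (X.fromSpecStalk x p)) :=
      (X.presheaf.germ W _ (hw.mem_open W.2 hxW)).hom.toAlgebra
    haveI := hW.isLocalization_stalk ⟨_, hw.mem_open W.2 hxW⟩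
    rw [← CycLib.ker_specMap_eq p hw, RingHom.mem_ker, CycLib.specMap_germ hw hxW (hw.mem_open W.2 hxW)]
    exact ((IsLocalization.map_units (X.presheaf.stalk (X.fromSpecStalk x p))
      (⟨a, ha⟩ : (hW.primeIdealOf ⟨_, hw.mem_open W.2 hxW⟩).asIdeal.primeCompl)).map (X.residue _).hom).ne_zero
  refine ⟨X.presheaf.germ W x hxW d.1, hmem z hzx d.1 hz d.2, ?_⟩
  letI : Algebra Γ(X, W) (X.presheaf.stalk x) := (X.presheaf.germ W x hxW).hom.toAlgebra
  haveI := hW.isLocalization_stalk ⟨x, hxW⟩
  have hcu : IsUnit (X.presheaf.germ W x hxW c.1) := IsLocalization.map_units (X.presheaf.stalk x) c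
  refine hcu.smul_eq_zero.1 ?_
  rw [smul_comm, hmc]
  exact ((FlatLocus.germL F.1 W x hxW).map_smul d.1 m).symm.trans
    ((congrArg (FlatLocus.germL F.1 W x hxW) hd).trans (map_zero _))

theorem length_ker_ne_top : Module.length (X.presheaf.stalk x) (LinearMap.ker (toVX F x)) ≠ ⊤ := by
  haveI := CycLib.finite_stalk F.2.1.1 x
  have h : qlen (LinearMap.ker (toVX F x)) ⊥ ≠ ⊤ :=
    qlen_ne_top_of_local (IsNoetherian.noetherian _) fun p hp y hy => by
      obtain ⟨s, hs, h0⟩ := exists_smul_eq_zero F hδ hx hp y hy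
      exact ⟨s, hs, by rw [h0]; exact zero_mem _⟩
  rwa [qlen, (Submodule.quotEquivOfEqBot _ (by ext; simp [Submodule.submoduleOf])).length_eq] at h

end Groth.Agent.K0Fam
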